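import Cfsg.Agent.Omega.IId.SymWr.Ht.LE
import Cfsg.Agent.Omega.IId.SymWr.Ht.Line

/-!
# II.d, `SwBig`, `T`-`T`: LEMMA E over `T = C_S(n)` in the frame `Ht.Fr` (bb OMEGA #19821, (LE))
-/

set_option autoImplicit false

namespace Cfsg.Agent.Omega.IId.SymWr.Ht.LEFr

open Subgroup Cfsg Cfsg.Agent.Omega.MinPar Cfsg.Agent.Omega.FFThm
open Cfsg.Agent.ZN (o2 zc)
open Cfsg.Agent.Omega.Half.SymA (Pt E Mv pm)
open Cfsg.Agent.Omega.HT.LineOf (Ln ln pts dd)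
open Cfsg.Agent.Omega.BTwo (BTS XX WW QQ O2)
open Cfsg.Agent.Omega.HTwo (ThmA.LE)

universe u

variable {G : Type u} [Group G] [Finite G] {k m : ℕ} {S : Sylow 2 G} {P V : Subgroup G}
  {M : SymK (S : Subgroup G) P V ⊥ k m} (h : Fr S P V M)

include h

/-- the facts about duads -/
theorem dd_of : LE.Dd M where
  act := fun _ _ e1 e2 _ hg => ⟨h.Qle e1 e2 hg, h.Qpp e1 e2 hg⟩
  V_le := fun _ _ e1 e2 => h.V_le e1 e2
  perp := fun _ _ e1 e2 _ hv hE _ hg => h.perp_comm e1 e2 hg hv hE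

/-- **LEMMA E for the line of three letters** -/
theorem le3 (zv : zc (o2 P) ≤ V) {p q r : Pt k m} (t : Tri p q r)
    (B : BTS (ln (h.line3 t)) (pts (pr M p q) (pr M p r)))
    (hTL : (S : Subgroup G) ⊓ centralizer ({pr M p q} : Set G) ≤ normalizer (ln (h.line3 t) : Set G))
    (hQS : o2 (centralizer ({pr M p q} : Set G)) ≤ (S : Subgroup G)) (j : Fin 3) :
    Cfsg.Agent.Omega.HTwo.ThmA.LE (ln (h.line3 t)) (pts (pr M p q) (pr M p r)) j := by
  refine LE.le_all h.toSit (dd_of h) zv t.pq t.pr t.n1 t.n2 t.n3 B (i0 := 0) (i1 := 1) (i2 := 2) rfl rfl ?_ hTL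
    hQS j
  show zpowers (dd (pr M p q) (pr M p r) 2) = _
  rw [show dd (pr M p q) (pr M p r) 2 = pr M q r from h.dd_two t]

/-- **LEMMA E over `T = C_S(n)`**, `n = pr M x (μ x)` an `S`-duad -/
theorem le_tn (zv : zc (o2 P) ≤ V) {μ ν : Equiv.Perm (Pt k m)} (F : Fours M μ ν) {x : Pt k m} (hx : x.2 ≠ 0)
    (B : BTS (ln (h.line3 (h.tri F hx))) (pts (pr M x (μ x)) (pr M x (x.1, 0))))
    (syl : ¬ 2 ∣ (tn S M μ x).relIndex (centralizer ({pr M x (μ x)} : Set G))) (j : Fin 3) :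
    Cfsg.Agent.Omega.HTwo.ThmA.LE (ln (h.line3 (h.tri F hx))) (pts (pr M x (μ x)) (pr M x (x.1, 0))) j := by
  refine le3 h zv (h.tri F hx) B (h.tn_norm F hx) ?_ j
  have h1 : o2 (centralizer ({pr M x (μ x)} : Set G)) ≤ tn S M μ x :=
    HT.LemE.le_of_odd (S.isPGroup'.to_le inf_le_left) inf_le_right syl
      (MinSimple.VModule.o2_isPGroup _) (MinSimple.VModule.o2_le _)
      (inf_le_right.trans (MinSimple.VModule.le_normalizer_o2 _))
  exact h1.trans inf_le_left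

end Cfsg.Agent.Omega.IId.SymWr.Ht.LEFr
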