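import Cfsg.Agent.Omega.IId.SymWr.Ht.Line
import Cfsg.Agent.Omega.HT.LineJ

/-!
# II.d, `SwBig`, T-T: LEMMA J (bb OMEGA #20002, helper666) and the structure `HTT` over `T = C_S(n)`

Hypotheses: `zv` : `Ω₁Z(O₂(P)) ≤ V`; `syl` : `T` has odd index in `C_G(n)`.
* `Fr.lemJ` : `K` normalised by `T` and `X`, `N_K(V_l)` trivial on `V_l`, `⟹` `T` has odd index in `T K`;
* `Fr.htt` : `HTT T (T ⊔ X) V_l R 0`; `Fr.core` : `Core` for every `z ∈ Z₀`.
-/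

set_option autoImplicit false
set_option linter.unusedSectionVars false

namespace Cfsg.Agent.Omega.IId.SymWr.Ht

open Subgroup Cfsg Cfsg.Agent.Omega.MinPar Cfsg.Agent.Omega.FFThm
open Cfsg.Agent.ZN (o2 zc)
open Cfsg.Agent.Omega.Half (Amb amb_of_loc)
open Cfsg.Agent.Omega.Half.SymA (Pt E Mv pm)
open Cfsg.Agent.Omega.HT.LineOf (Ln ln pts dd)
open Cfsg.Agent.Omega.BTwo (BT XX WW QQ O2)
open Cfsg.Agent.MinSimple.VModule (le_normalizer_o2 o2_isPGroup o2_le mem_zc zc_le)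

universe u

variable {G : Type u} [Group G] [Finite G] {k m : ℕ}

namespace Fr

variable {S : Sylow 2 G} {P V : Subgroup G} {M : SymK (S : Subgroup G) P V ⊥ k m} (h : Fr S P V M)
  {μ ν : Equiv.Perm (Pt k m)} (F : Fours M μ ν) {x : Pt k m} (hx : x.2 ≠ 0)
  (zv : zc (o2 P) ≤ V) (syl : ¬ 2 ∣ (tn S M μ x).relIndex (centralizer ({pr M x (μ x)} : Set G)))
include h F hx zv syl

omit h F hx zv syl in
theorem tn_p : IsPGroup 2 (tn S M μ x) := S.isPGroup'.to_le inf_le_left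

/-- **LEMMA J** -/
theorem lemJ {K : Subgroup G} (hT : tn S M μ x ≤ normalizer (K : Set G))
    (hK : ∀ g ∈ K, g ∈ normalizer (ln (h.line3 (h.tri F hx)) : Set G) →
      g ∈ centralizer (ln (h.line3 (h.tri F hx)) : Set G)) :
    ¬ 2 ∣ (tn S M μ x).relIndex (tn S M μ x ⊔ K) := by
  have t := h.tri F hx
  intro hdvd
  obtain ⟨R, hTR, hRle, hR, hRodd⟩ := HT.exists_syl (S := tn S M μ x) (P := tn S M μ x ⊔ K) tn_p le_sup_left
  have hlt : tn S M μ x < R := by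
    refine lt_of_le_of_ne hTR fun e => hRodd ?_
    rw [← e]; exact hdvd
  obtain ⟨g, hgR, hgN, hgT, hg2⟩ := MinSimple.Choice97.exists_normalizing hR hlt
  obtain ⟨s, hs, b, hb, rfl⟩ := mem_sup_norm hT (hRle hgR)
  -- `b` normalises `T`
  have hbN : b ∈ normalizer (tn S M μ x : Set G) := by
    have h1 := mul_mem (inv_mem (le_normalizer hs)) hgN
    rwa [inv_mul_cancel_left] at h1
  have hbT : b ∉ tn S M μ x := fun e => hgT (mul_mem hs e)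
  have hbR : b ∈ R := by
    have h1 := mul_mem (inv_mem (hTR hs)) hgR
    rwa [inv_mul_cancel_left] at h1
  have hTb : ∀ c ∈ tn S M μ x, b * c * b⁻¹ ∈ tn S M μ x := fun c hc => (mem_normalizer_iff.1 hbN c).1 hc
  have hTb' : ∀ c ∈ tn S M μ x, b⁻¹ * c * b ∈ tn S M μ x := fun c hc => by
    have := (mem_normalizer_iff.1 (inv_mem hbN) c).1 hc
    rwa [inv_inv] at this
  have hKs : ∀ c ∈ tn S M μ x, ∀ y ∈ K, c * y * c⁻¹ ∈ K := fun c hc y hy => (mem_normalizer_iff.1 (hT hc) y).1 hy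
  -- `[b, c] ∈ K ∩ T`
  have hcomm : ∀ c ∈ tn S M μ x, c⁻¹ * b * c * b⁻¹ ∈ K ⊓ tn S M μ x := fun c hc => by
    refine mem_inf.2 ⟨?_, ?_⟩
    · have h1 := hKs c⁻¹ (inv_mem hc) b hb
      rw [inv_inv] at h1
      exact mul_mem h1 (inv_mem hb)
    · have h1 := mul_mem (inv_mem hc) (hTb c hc)
      have e : c⁻¹ * (b * c * b⁻¹) = c⁻¹ * b * c * b⁻¹ := by group
      rwa [e] at h1
  -- the elements of `V` commuting with `K ∩ T`
  have hW : ∀ v ∈ V, (∀ c ∈ K ⊓ tn S M μ x, c * v = v * c) →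
      b * v * b⁻¹ ∈ V ∧ ∀ c ∈ K ⊓ tn S M μ x, c * (b * v * b⁻¹) = b * v * b⁻¹ * c := by
    intro v hv hc
    have hb1 : ∀ c ∈ K ⊓ tn S M μ x, b⁻¹ * c * b ∈ K ⊓ tn S M μ x := fun c hc =>
      mem_inf.2 ⟨mul_mem (mul_mem (inv_mem hb) hc.1) hb, hTb' c hc.2⟩
    have hcom : ∀ c ∈ K ⊓ tn S M μ x, c * (b * v * b⁻¹) = b * v * b⁻¹ * c := by
      intro c hc1
      have h1 := hc _ (hb1 c hc1)
      calc c * (b * v * b⁻¹) = b * (b⁻¹ * c * b * v) * b⁻¹ := by group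
        _ = b * (v * (b⁻¹ * c * b)) * b⁻¹ := by rw [h1]
        _ = b * v * b⁻¹ * c := by group
    refine ⟨h.mem_V_of F hx zv ?_ ?_, hcom⟩
    · have hvv := h.Vsq hv
      calc b * v * b⁻¹ * (b * v * b⁻¹) = b * (v * v) * b⁻¹ := by group
        _ = 1 := by rw [hvv]; group
    · intro y hy
      have hyT := h.Q_le_tn F hx hy
      have hyv : y * v = v * y := by
        have h1 : y ∈ centralizer (V : Set G) := by
          have := h.Q_eq ▸ hy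
          exact this.2
        exact (mem_centralizer_iff.1 h1 v hv).symm
      have h1 : b⁻¹ * (y⁻¹ * b * y * b⁻¹) * b ∈ K ⊓ tn S M μ x := hb1 _ (hcomm y hyT)
      have h2 := hc _ h1
      -- `b⁻¹ y b = y (b⁻¹ y⁻¹ b y b⁻¹ b)⁻¹ ...`
      have e1 : b⁻¹ * y * b = y * (b⁻¹ * (y⁻¹ * b * y * b⁻¹) * b)⁻¹ := by group
      have h3 : (b⁻¹ * (y⁻¹ * b * y * b⁻¹) * b)⁻¹ * v = v * (b⁻¹ * (y⁻¹ * b * y * b⁻¹) * b)⁻¹ :=
        ((show Commute _ v from h2).inv_left).eq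
      have h4 : b⁻¹ * y * b * v = v * (b⁻¹ * y * b) := by
        rw [e1, mul_assoc, h3, ← mul_assoc, hyv, mul_assoc]
      calc y * (b * v * b⁻¹) = b * (b⁻¹ * y * b * v) * b⁻¹ := by group
        _ = b * (v * (b⁻¹ * y * b)) * b⁻¹ := by rw [h4]
        _ = b * v * b⁻¹ * y := by group
  -- the points of the line
  have hT1 : ∀ v ∈ ln (h.line3 t), ∀ c ∈ K ⊓ tn S M μ x, c * v = v * c := fun v hv c hc =>
    (mem_centralizer_iff.1 (hK c hc.1 (h.tn_norm F hx hc.2)) v hv).symm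
  have hAl : pr M x (μ x) ∈ ln (h.line3 t) := (h.line3 t).dd_mem 0
  have hBl : pr M x (x.1, 0) ∈ ln (h.line3 t) := (h.line3 t).dd_mem 1
  obtain ⟨hA', -⟩ := hW _ (pr_mem M _ _) (hT1 _ hAl)
  obtain ⟨hB', hB''⟩ := hW _ (pr_mem M _ _) (hT1 _ hBl)
  obtain ⟨A, hA⟩ : ∃ A, A = pr M x (μ x) := ⟨_, rfl⟩
  obtain ⟨B, hB⟩ : ∃ B, B = pr M x (x.1, 0) := ⟨_, rfl⟩
  rw [← hA] at hA'
  rw [← hB] at hB' hB''
  -- the transposition
  obtain ⟨τ, hτ, hτp⟩ := h.exists_swap F hx hx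
  have hτP := h.SP hτ.1
  have hEB : E M B x ≠ E M B (μ x) := by
    rw [hB, E_pr_left M t.pr t.n2, E_pr_of_ne M t.pr t.n1.symm t.n3]
    exact one_ne_zero
  have hBV : B ∈ V := by rw [hB]; exact pr_mem M _ _
  have k1 : τ * B * τ⁻¹ = B * A := by
    rw [h.conj_swap hτP t.pq hτp hBV hEB, hA]
  -- `b τ b⁻¹ = τ c`
  obtain ⟨c, hc⟩ : ∃ c, c = τ⁻¹ * b * τ * b⁻¹ := ⟨_, rfl⟩
  have hcK : c ∈ K ⊓ tn S M μ x := by rw [hc]; exact hcomm τ hτ
  have k2 : τ * (b * B * b⁻¹) * τ⁻¹ = b * B * b⁻¹ * (b * A * b⁻¹) := by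
    have k3 := hB'' c hcK
    calc τ * (b * B * b⁻¹) * τ⁻¹ = τ * (b * B * b⁻¹ * c) * c⁻¹ * τ⁻¹ := by group
      _ = τ * (c * (b * B * b⁻¹)) * c⁻¹ * τ⁻¹ := by rw [k3]
      _ = b * (τ * B * τ⁻¹) * b⁻¹ := by rw [hc]; group
      _ = b * B * b⁻¹ * (b * A * b⁻¹) := by rw [k1]; group
  have hA1 : A ≠ 1 := by rw [hA]; exact h.pr_ne t.pq t.n1
  have hbA1 : b * A * b⁻¹ ≠ 1 := fun e => hA1 (conj_eq_one_iff.1 e)
  have k4 : b * A * b⁻¹ = A := by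
    by_cases hE : E M (b * B * b⁻¹) x = E M (b * B * b⁻¹) (μ x)
    · exfalso
      have h1 := h.comm_perp_of (p := x) (q := μ x) hτP (Or.inr hτp) hB' hE
      rw [h1, mul_inv_cancel_right] at k2
      exact hbA1 (mul_left_cancel (k2.symm.trans (mul_one _).symm))
    · have h1 := h.conj_swap hτP t.pq hτp hB' hE
      rw [h1, ← hA] at k2
      exact (mul_left_cancel k2).symm
  -- `T ⟨b⟩ ≤ C(n)`
  have hbC : b ∈ centralizer ({pr M x (μ x)} : Set G) := by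
    rw [← hA, mem_centralizer_singleton_iff]
    exact mul_inv_eq_iff_eq_mul.1 k4
  have hle : tn S M μ x ⊔ zpowers b ≤ centralizer ({pr M x (μ x)} : Set G) :=
    sup_le inf_le_right (by rw [zpowers_le]; exact hbC)
  have hp : IsPGroup 2 (tn S M μ x ⊔ zpowers b : Subgroup G) :=
    hR.to_le (sup_le hTR (by rw [zpowers_le]; exact hbR))
  have h1 := HT.card_dvd_card (inf_le_right : tn S M μ x ≤ _) syl hp hle
  have h2 : tn S M μ x = tn S M μ x ⊔ zpowers b := eq_of_le_of_card_ge le_sup_left (Nat.le_of_dvd Nat.card_pos h1)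
  exact hbT (h2.symm.le (mem_sup_right (mem_zpowers b)))

/-- LEMMA J in the form of `LineOf.loc_of`, `LineOf.core_of_J` -/
theorem lemJ' {K : Subgroup G} (hT : tn S M μ x ≤ normalizer (K : Set G))
    (hX : h.X3 (h.tri F hx) ≤ normalizer (K : Set G))
    (hK : ∀ g ∈ K, ∃ n : ℕ, g ^ 2 ^ n ∈ centralizer (ln (h.line3 (h.tri F hx)) : Set G)) :
    ¬ 2 ∣ (tn S M μ x).relIndex (tn S M μ x ⊔ K) :=
  h.lemJ F hx zv syl hT fun _ hg hgN =>
    (h.line3 (h.tri F hx)).cen_of (h.bt3 (h.tri F hx)) hX (fun g hg _ => hK g hg) hg hgN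

/-- the structure `HTT` over `T = C_S(n)` -/
theorem htt : HT.HTT (tn S M μ x) (tn S M μ x ⊔ h.X3 (h.tri F hx)) (ln (h.line3 (h.tri F hx)))
    (pts (pr M x (μ x)) (pr M x (x.1, 0))) 0 := by
  have t := h.tri F hx
  refine (h.line3 t).htt (h.bt3 t) h.char2 tn_p syl inf_le_right (h.tn_norm F hx)
    (fun z hz => h.hdec F hx zv hz) ?_
  intro M' hTM hXM _ _
  exact HT.LineOf.loc_of (h.line3 t) (h.bt3 t) tn_p (h.tn_norm F hx)
    (fun K h1 h2 h3 => h.lemJ' F hx zv syl h1 h2 h3) hTM hXM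

/-- the point `R 0` -/
theorem R_zero : ∀ y, y ∈ pts (pr M x (μ x)) (pr M x (x.1, 0)) 0 ↔ y = 1 ∨ y = pr M x (μ x) := fun _ =>
  (h.line3 (h.tri F hx)).mem_pts

/-- `O₂(M_z / C(U_z)) = 1` for every `z ∈ Z₀` -/
theorem core {z : G} (hz : z ∈ zc (tn S M μ x) ⊓
    centralizer ((tn S M μ x ⊔ h.X3 (h.tri F hx) : Subgroup G) : Set G)) :
    HT.Main.Core (ln (h.line3 (h.tri F hx))) (pts (pr M x (μ x)) (pr M x (x.1, 0))) 0 (pr M x (μ x)) z :=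
  HT.LineOf.core_of_J (h.htt F hx zv syl) (h.R_zero F hx zv syl) hz
    fun K h1 h2 h3 => h.lemJ' F hx zv syl h1 h2 h3

end Fr

end Cfsg.Agent.Omega.IId.SymWr.Ht
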