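import Cfsg.Agent.Omega.IId.SymWr.Ht.Odd
import Cfsg.Agent.Omega.IId.SymWr.SylN.OfFr
import Cfsg.Agent.Omega.IId.SwB.ESig
import Cfsg.Agent.Omega.HT.EndY

/-!
# II.d, `SwBig`, T-T: the end (bb OMEGA #19862, #20414; `HT.Main.false_of_y` over `T = C_S(n)`)

`n = pr M x (μ x)`, `V_l = {1, 12, 10, 20}`, `Z₀ = Ω₁Z(T) ⊓ C(X)`, `σ = sg`, `z* = σ n`.
* `Fr.Z0_zero` : the elements of `Z₀` vanish on the line; `Fr.comm_sg`, `Fr.zst_mem` : `z* ∈ Z₀`;
* `Fr.sig_eq` : `Sig c ⟹ c = z*`; `Fr.yv` : `V` centralises `⟨n^{C(σ)}⟩`;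
* `Fr.false_of_le` : **no T-T partner**, from LEMMA E (`2 ≤ k` or `3 ≤ m`).
-/

set_option autoImplicit false
set_option linter.unusedSectionVars false

namespace Cfsg.Agent.Omega.IId.SymWr.Ht

open Subgroup Cfsg Cfsg.Agent.Omega.MinPar Cfsg.Agent.Omega.FFThm
open Cfsg.Agent.ZN (o2 zc)
open Cfsg.Agent.Omega.Half (Amb amb_of_loc)
open Cfsg.Agent.Omega.Half.SymA (Pt E Mv pm)
open Cfsg.Agent.Omega.HT.LineOf (Ln ln pts dd)
open Cfsg.Agent.Omega.BTwo (BT XX WW QQ O2)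
open Cfsg.Agent.Omega.HTwo.Hat (ZQ)
open Cfsg.Agent.MinSimple.VModule (le_normalizer_o2 o2_isPGroup o2_le mem_zc zc_le)

universe u

variable {G : Type u} [Group G] [Finite G] {k m : ℕ}

namespace Fr

variable {S : Sylow 2 G} {P V : Subgroup G} {M : SymK (S : Subgroup G) P V ⊥ k m} (h : Fr S P V M)
  {μ ν : Equiv.Perm (Pt k m)} (F : Fours M μ ν) {x : Pt k m} (hx : x.2 ≠ 0)
include h F hx

/-- `T` fixes the summand of `x` -/
theorem tn_fst {s : G} (hs : s ∈ tn S M μ x) (p : Pt k m) : (pp M s p).1 = x.1 ↔ p.1 = x.1 := by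
  have h1 : (pp M s x).1 = x.1 := by
    rcases h.tn_pp F hx hs with e | e
    · rw [e.1]
    · rw [e.1, F.mfst]
  have h2 := pp_fst_iff h.amb h.hm1 (M := M) (h.SP hs.1) (p := p) (q := x)
  rwa [h1] at h2

/-- `T` centralises `σ` -/
theorem comm_sg {s : G} (hs : s ∈ tn S M μ x) : s * (sg h.toSit x.1).val = (sg h.toSit x.1).val * s := by
  rw [h.comm_iff (h.SP hs.1) (sg_mem h.toSit x.1)]
  intro p
  rw [E_sg, E_sg]
  simp only [h.tn_fst F hx hs p, h.snd hs.1]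

/-- `X` contains an element acting as `(x 0)` -/
theorem exists_X : ∃ w ∈ h.X3 (h.tri F hx), pp M w = Equiv.swap x (x.1, 0) := by
  have t := h.tri F hx
  obtain ⟨s, hs, h1⟩ := h.exists_h t.pr t.n2
  have hE : E M (pr M x (μ x)) x ≠ E M (pr M x (μ x)) (x.1, 0) := by
    rw [E_pr_left M t.pq t.n1, E_pr_of_ne M t.pq t.n2.symm t.n3.symm]
    exact one_ne_zero
  obtain ⟨⟨-, h3⟩, -⟩ := h1 _ (pr_mem M x (μ x)) hE
  refine ⟨_, ?_, h3⟩
  have hsN : s ∈ normalizer (pts (pr M x (μ x)) (pr M x (x.1, 0)) 1 : Set G) := by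
    rw [(h.line3 t).normalizer_pts 1]
    exact hs
  have h4 := BTwo.cj_le_WW (V := ln (h.line3 t)) hsN
  have h5 : s * pr M x (μ x) * s⁻¹ ∈ WW (ln (h.line3 t)) (pts (pr M x (μ x)) (pr M x (x.1, 0)) 1) := by
    apply h4
    rw [BTwo.mem_cj]
    have e : s⁻¹ * (s * pr M x (μ x) * s⁻¹) * s = pr M x (μ x) := by group
    rw [e]
    exact (h.line3 t).dd_mem 0
  exact (le_iSup (fun i => WW (ln (h.line3 t)) (pts (pr M x (μ x)) (pr M x (x.1, 0)) i)) 1) h5

variable (zv : zc (o2 P) ≤ V)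
include zv

/-- the elements of `Z₀` vanish on the line -/
theorem Z0_zero {c : G} (hc : c ∈ zc (tn S M μ x) ⊓
    centralizer ((tn S M μ x ⊔ h.X3 (h.tri F hx) : Subgroup G) : Set G)) :
    E M c x = 0 ∧ E M c (μ x) = 0 ∧ ∀ i, E M c (i, 0) = 0 := by
  have h0 := h.zc_tn_zero F hx zv hc.1
  have hcV := h.zc_tn_le F hx zv hc.1
  obtain ⟨w, hw, hwp⟩ := h.exists_X F hx
  have h1 : w * c = c * w := mem_centralizer_iff.1 hc.2 w (mem_sup_right hw)
  have h2 := (h.comm_iff (h.X_le_P (h.tri F hx) hw) hcV).1 h1 (x.1, 0)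
  rw [hwp, Equiv.swap_apply_right, h0] at h2
  exact ⟨h2, by rw [h.zc_tn_mu F hx zv hc.1, h2], h0⟩

omit zv in
/-- `z* ∈ Z₀` -/
theorem zst_mem : (sg h.toSit x.1).val * pr M x (μ x) ∈ zc (tn S M μ x) ⊓
    centralizer ((tn S M μ x ⊔ h.X3 (h.tri F hx) : Subgroup G) : Set G) := by
  have t := h.tri F hx
  have hσ := sg_mem h.toSit x.1
  have hn := pr_mem M x (μ x)
  refine h.mem_Z0 F hx (mul_mem hσ hn) (fun s hs => ?_) ?_ ?_ ?_
  · have h1 := h.comm_sg F hx hs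
    have h2 := mem_centralizer_singleton_iff.1 hs.2
    rw [← mul_assoc, h1, mul_assoc, h2, mul_assoc]
  · rw [Half.SymA.E_mul M hσ hn, E_sg, E_pr_left M t.pq t.n1, if_pos rfl, if_neg hx]
    decide
  · rw [Half.SymA.E_mul M hσ hn, E_sg, E_pr_right M t.pq t.n1, if_pos (F.mfst x), if_neg fun e => hx (F.mnz.1 e)]
    decide
  · rw [Half.SymA.E_mul M hσ hn, E_sg, E_pr_of_ne M t.pq t.n2.symm t.n3.symm, if_pos rfl, if_pos rfl, add_zero]

omit zv in
/-- the values of `z*` -/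
theorem E_zst (p : Pt k m) : E M ((sg h.toSit x.1).val * pr M x (μ x)) p =
    (if p.1 = x.1 then (if p.2 = 0 then 0 else 1) else 0) + ((if p = x then 1 else 0) + (if p = μ x then 1 else 0)) := by
  classical
  rw [Half.SymA.E_mul M (sg_mem h.toSit x.1) (pr_mem M x (μ x)), E_sg]
  congr 1
  have h1 := E_pr M (p := x) (q := μ x) (h.tri F hx).pq p
  convert h1

/-- **`Sig c` implies `c = z*`** -/
theorem sig_eq {c : G} (hc : c ∈ zc (tn S M μ x) ⊓
    centralizer ((tn S M μ x ⊔ h.X3 (h.tri F hx) : Subgroup G) : Set G))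
    (hs : HT.Sig (ln (h.line3 (h.tri F hx))) (pts (pr M x (μ x)) (pr M x (x.1, 0))) 0 c) :
    c = (sg h.toSit x.1).val * pr M x (μ x) := by
  classical
  have t := h.tri F hx
  have hcV := h.zc_tn_le F hx zv hc.1
  obtain ⟨c1, c2, c3⟩ := h.Z0_zero F hx zv hc
  have hv := pr_mem M x (x.1, 0)
  have hyV := mul_mem hv hcV
  -- constant outside `{x, μ x}`
  have key : ∀ a b : Pt k m, a.1 = b.1 → a ≠ x → a ≠ μ x → b ≠ x → b ≠ μ x →
      E M (pr M x (x.1, 0) * c) a = E M (pr M x (x.1, 0) * c) b := by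
    intro a b hab ha1 ha2 hb1 hb2
    obtain ⟨g, hg, hgp⟩ := h.exists_pp (π := Equiv.swap a b) (by
      intro r
      rcases eq_or_ne r a with rfl | h1
      · rw [Equiv.swap_apply_left, hab]
      · rcases eq_or_ne r b with rfl | h2
        · rw [Equiv.swap_apply_right, hab]
        · rw [Equiv.swap_apply_of_ne_of_ne h1 h2])
    have g1 : pp M g x = x := by rw [hgp, Equiv.swap_apply_of_ne_of_ne (Ne.symm ha1) (Ne.symm hb1)]
    have g2 : pp M g (μ x) = μ x := by rw [hgp, Equiv.swap_apply_of_ne_of_ne (Ne.symm ha2) (Ne.symm hb2)]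
    have hgr : g * pr M x (μ x) = pr M x (μ x) * g := h.comm_pr hg t.pq (Or.inl ⟨g1, g2⟩)
    have hgN : g ∈ normalizer (pts (pr M x (μ x)) (pr M x (x.1, 0)) 0 : Set G) := by
      rw [(h.line3 t).normalizer_pts 0]
      exact mem_centralizer_singleton_iff.2 hgr
    have hcond : ∀ v ∈ ln (h.line3 t), g * v * g⁻¹ ∈ ln (h.line3 t) ⊔
        ZQ (pts (pr M x (μ x)) (pr M x (x.1, 0))) 0 := by
      intro v hvl
      have hvV := h.ln_le t hvl
      have hgv := h.amb.conj_mem hg hvV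
      have e : g * v * g⁻¹ = v * (v⁻¹ * (g * v * g⁻¹)) := by group
      rw [e]
      refine mul_mem (mem_sup_left hvl) (mem_sup_right ?_)
      have hw : v⁻¹ * (g * v * g⁻¹) ∈ V := mul_mem (inv_mem hvV) hgv
      have hE : ∀ r, pp M g r = r → E M (v⁻¹ * (g * v * g⁻¹)) r = 0 := by
        intro r hr
        have h1 := E_conj (M := M) hg hvV r
        rw [hr] at h1
        rw [Half.SymA.E_mul M (inv_mem hvV) hgv, Half.SymA.E_inv M hvV, h1, CharTwo.add_self_eq_zero]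
      have h1 := h.perp t.pq t.n1 hw (by rw [hE x g1, hE (μ x) g2])
      have h2 := mem_zc.1 h1
      have hQ : QQ (pts (pr M x (μ x)) (pr M x (x.1, 0)) 0) = o2 (centralizer ({pr M x (μ x)} : Set G)) := by
        show O2 (normalizer (pts (pr M x (μ x)) (pr M x (x.1, 0)) 0 : Set G)) = _
        rw [(h.line3 t).normalizer_pts 0]
        rfl
      refine mem_inf.2 ⟨?_, ?_⟩
      · rw [hQ]; exact h2.1
      · rw [hQ, mem_centralizer_iff]
        intro y hy
        exact h2.2.1 y hy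
    have hv0 : pr M x (x.1, 0) ∉ pts (pr M x (μ x)) (pr M x (x.1, 0)) 0 := by
      rw [(h.line3 t).mem_pts]
      rintro (e | e)
      · exact h.pr_ne t.pr t.n2 e
      · have e1 : pr M x (x.1, 0) = pr M x (μ x) := e
        exact (h.line3 t).ne e1.symm
    have h1 := hs g hgN hcond _ ((h.line3 t).dd_mem 1) hv0
    have h1' : (pr M x (x.1, 0) * c)⁻¹ * (g * (pr M x (x.1, 0) * c) * g⁻¹) ∈
        pts (pr M x (μ x)) (pr M x (x.1, 0)) 0 := by
      have e : (pr M x (x.1, 0) * c)⁻¹ * (g * (pr M x (x.1, 0) * c) * g⁻¹) =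
          (pr M x (x.1, 0) * c)⁻¹ * g * (pr M x (x.1, 0) * c) * g⁻¹ := by group
      rw [e]
      exact h1
    rw [(h.line3 t).mem_pts] at h1'
    have hgy := h.amb.conj_mem hg hyV
    have h2 : E M ((pr M x (x.1, 0) * c)⁻¹ * (g * (pr M x (x.1, 0) * c) * g⁻¹)) a =
        E M (pr M x (x.1, 0) * c) a + E M (pr M x (x.1, 0) * c) b := by
      rw [Half.SymA.E_mul M (inv_mem hyV) hgy, Half.SymA.E_inv M hyV, E_conj' hg hyV, hgp, Equiv.swap_inv,
        Equiv.swap_apply_left]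
    have h3 : E M ((pr M x (x.1, 0) * c)⁻¹ * (g * (pr M x (x.1, 0) * c) * g⁻¹)) a = 0 := by
      rcases h1' with e | e
      · rw [e, Half.SymA.E_one]
      · rw [e]
        exact E_pr_of_ne M t.pq ha1 ha2
    rw [h2] at h3
    exact CharTwo.add_eq_zero.1 h3
  refine Half.SymA.inj M hcV (mul_mem (sg_mem h.toSit x.1) (pr_mem M x (μ x))) fun p => ?_
  rw [h.E_zst F hx]
  by_cases p1 : p = x
  · rw [p1, c1, if_pos rfl, if_neg hx, if_pos rfl, if_neg t.n1]
    decide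
  by_cases p2 : p = μ x
  · rw [p2, c2, if_pos (F.mfst x), if_neg fun e => hx (F.mnz.1 e), if_neg t.n1.symm, if_pos rfl]
    decide
  rw [if_neg p1, if_neg p2, add_zero, add_zero]
  by_cases p3 : p.1 = x.1
  · rw [if_pos p3]
    by_cases p4 : p.2 = 0
    · rw [if_pos p4]
      have e : p = (p.1, 0) := Prod.ext rfl p4
      rw [e]; exact c3 _
    · rw [if_neg p4]
      have h1 := key p (x.1, 0) p3 p1 p2 t.n2.symm t.n3.symm
      have hp0 : p ≠ (x.1, 0) := fun e => p4 (by rw [e])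
      rw [Half.SymA.E_mul M hv hcV, Half.SymA.E_mul M hv hcV, E_pr_of_ne M t.pr p1 hp0, E_pr_right M t.pr t.n2, c3,
        zero_add, add_zero] at h1
      exact h1
  · rw [if_neg p3]
    have q1 : ((p.1, 0) : Pt k m) ≠ x := fun e => p3 (by rw [← e])
    have q2 : ((p.1, 0) : Pt k m) ≠ μ x := fun e => p3 (by rw [← F.mfst x, ← e])
    have q3 : ((p.1, 0) : Pt k m) ≠ (x.1, 0) := fun e => p3 (Prod.mk.inj e).1
    have h1 := key p (p.1, 0) rfl p1 p2 q1 q2
    have hp0 : p ≠ (x.1, 0) := fun e => p3 (by rw [e])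
    rw [Half.SymA.E_mul M hv hcV, Half.SymA.E_mul M hv hcV, E_pr_of_ne M t.pr p1 hp0, E_pr_of_ne M t.pr q1 q3, c3,
      zero_add, add_zero] at h1
    exact h1

/-- `V` centralises `⟨n^{C(σ)}⟩` -/
theorem yv (hkm : 2 ≤ k ∨ 3 ≤ m) : HT.Main.YV (ln (h.line3 (h.tri F hx))) (pr M x (μ x))
    ((sg h.toSit x.1).val * pr M x (μ x)) := by
  intro g hg v hv
  have e : (sg h.toSit x.1).val * pr M x (μ x) * pr M x (μ x) = (sg h.toSit x.1).val := by
    rw [mul_assoc, h.pr_sq, mul_one]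
  rw [e] at hg
  exact SwB.esig_of h.toSit h.char2 zv hkm (sg_mem h.toSit x.1) (E_sg h.toSit x.1) hg (h.ln_le (h.tri F hx) hv)
    (pr_mem M x (μ x))

omit zv in
/-- `z* ≠ 1` -/
theorem zst_ne : (sg h.toSit x.1).val * pr M x (μ x) ≠ 1 := by
  intro e
  have h1 := h.E_zst F hx (ν x)
  rw [e, Half.SymA.E_one, if_pos (F.nfst x), if_neg (h.nu_ne F hx), if_neg (F.nne x hx), if_neg (F.nmu x hx)] at h1
  revert h1
  decide

omit zv in
/-- another element of `Z₀` -/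
theorem exists_two (hkm : 2 ≤ k ∨ 3 ≤ m) : ∃ y ∈ zc (tn S M μ x) ⊓
    centralizer ((tn S M μ x ⊔ h.X3 (h.tri F hx) : Subgroup G) : Set G), y ≠ 1 ∧ pr M (ν x) (μ (ν x)) ≠ y := by
  classical
  have hnu := h.nu_ne F hx
  have hnn : ν x ≠ μ (ν x) := (F.mne _ hnu).symm
  rcases hkm with hk | h3
  · -- the other summands
    obtain ⟨y, hy, hE⟩ := Half.SymA.exists_E M (fun p => if p.1 = x.1 then 0 else if p.2 = 0 then 0 else 1) (by
      intro j
      by_cases hj : j = x.1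
      · simp only [hj, if_true, Finset.sum_const_zero]
      · simp only [if_neg hj]
        exact sum_ne_zero h.hm1)
    refine ⟨y, h.mem_Z0 F hx hy (fun s hs => ?_) ?_ ?_ ?_, ?_, ?_⟩
    · rw [h.comm_iff (h.SP hs.1) hy]
      intro p
      rw [hE, hE]
      simp only [h.tn_fst F hx hs p, h.snd hs.1]
    · rw [hE]; exact if_pos rfl
    · rw [hE]; exact if_pos (F.mfst x)
    · rw [hE]; exact if_pos rfl
    · intro e
      obtain ⟨j, hj⟩ : ∃ j : Fin k, j ≠ x.1 := by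
        have : Nontrivial (Fin k) := Fin.nontrivial_iff_two_le.2 hk
        exact exists_ne x.1
      have h1 := hE (j, x.2)
      rw [e, Half.SymA.E_one] at h1
      simp only [if_neg hj, if_neg hx] at h1
      exact zero_ne_one h1
    · intro e
      have h1 := hE (ν x)
      rw [← e, E_pr_left M (F.mfst (ν x)).symm hnn] at h1
      simp only [F.nfst x, if_true] at h1
      exact one_ne_zero h1
  · refine ⟨_, h.zst_mem F hx, h.zst_ne F hx, fun e => ?_⟩
    -- a further letter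
    obtain ⟨c, hc⟩ : ∃ c : Fin (2 ^ m + 1), c ∉ ({0, x.2, (μ x).2, (ν x).2, (μ (ν x)).2} : Finset (Fin (2 ^ m + 1))) := by
      by_contra hcon
      push Not at hcon
      have h1 : (Finset.univ : Finset (Fin (2 ^ m + 1))).card ≤
          ({0, x.2, (μ x).2, (ν x).2, (μ (ν x)).2} : Finset (Fin (2 ^ m + 1))).card :=
        Finset.card_le_card fun c _ => hcon c
      have h2 := Finset.card_le_five (a := (0 : Fin (2 ^ m + 1))) (b := x.2) (c := (μ x).2) (d := (ν x).2)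
        (e := (μ (ν x)).2)
      rw [Finset.card_univ, Fintype.card_fin] at h1
      have h4 : 2 ^ 3 ≤ 2 ^ m := Nat.pow_le_pow_right (by norm_num) h3
      omega
    simp only [Finset.mem_insert, Finset.mem_singleton, not_or] at hc
    obtain ⟨e0, e1, e2, e3, e4⟩ := hc
    have h1 := h.E_zst F hx (x.1, c)
    have f1 : ((x.1, c) : Pt k m) ≠ x := fun e => e1 (congrArg Prod.snd e)
    have f2 : ((x.1, c) : Pt k m) ≠ μ x := fun e => e2 (congrArg Prod.snd e)
    have f3 : ((x.1, c) : Pt k m) ≠ ν x := fun e => e3 (congrArg Prod.snd e)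
    have f4 : ((x.1, c) : Pt k m) ≠ μ (ν x) := fun e => e4 (congrArg Prod.snd e)
    rw [← e, E_pr_of_ne M (F.mfst (ν x)).symm f3 f4, if_pos rfl, if_neg e0, if_neg f1, if_neg f2] at h1
    revert h1
    decide

/-- **no T-T partner**, from LEMMA E -/
theorem false_of_le (hkm : 2 ≤ k ∨ 3 ≤ m)
    (hLE : ∀ i, HTwo.ThmA.LE (ln (h.line3 (h.tri F hx))) (pts (pr M x (μ x)) (pr M x (x.1, 0))) i) : False := by
  have syl : ∀ {y : Pt k m}, y.2 ≠ 0 → ¬ 2 ∣ (tn S M μ y).relIndex (centralizer ({pr M y (μ y)} : Set G)) :=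
    fun hy => h.syl F hy
  have b := h.htt F hx zv (syl hx)
  obtain ⟨y, hy, hy1, hne⟩ := h.exists_two F hx hkm
  refine HT.Main.false_of_y b hLE (h.R_zero F hx zv (syl hx)) (h.odd_MZ F hx zv syl) (fun c hc hs => ?_)
    (h.sib_mem F hx) hy (h.sib_ne F hx) hy1 hne
  exact ⟨_, h.zst_mem F hx, h.zst_ne F hx, Or.inr (h.sig_eq F hx zv hc hs), h.core F hx zv (syl hx) (h.zst_mem F hx),
    h.yv F hx zv hkm⟩

end Fr

end Cfsg.Agent.Omega.IId.SymWr.Ht
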