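import Cfsg.Agent.Omega.IId.SymWr.Ht.Stab

/-!
# II.d, `SwBig`, T-T: see `Ht/Fr.lean` (the frame), `Ht/Line.lean`, `Ht/Stab.lean`
-/
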