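import Cfsg.Agent.Omega.IId.SymWr.Pr
import Cfsg.Agent.Omega.HT.LemE

/-!
# II.d, `SwBig`, `T`-`T`: LEMMA E over `T = C_S(n)` (bb OMEGA #19821, (LE); the three term trick)

`V` = the sum of `k` even-subset modules of degree `2 ^ m + 1`, `r = pr M a b` a duad, `N = C_G(r)`,
`R i0 = ⟨r⟩`, `R i1 = ⟨pr M a c⟩`, `R i2 = ⟨pr M b c⟩` the points of the line `L`.  If `Λ ≤ R i0 × C_G(X)` is
normalised by `N`, then `Λ ≤ R i0`.

Otherwise `Λ R i0` contains an involution `f ∈ V` centralised by `X` and `T`; `f` is not constant on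
`Δ = Ω_1 - {a, b}` or on another block `Δ`, so `Λ R i0` contains all duads inside `Δ`.  Three of them with product
`1`: one of the three has its conjugate by the partner `h ∈ N` in `C_G(X)`.  The conjugate of `r` under the
centraliser of this duad commute with `V`; conjugate by `h`.
-/

set_option autoImplicit false

namespace Cfsg.Agent.Omega.IId.SymWr.Ht.LE

open Subgroup Pointwise Cfsg Cfsg.Agent.ZN Cfsg.Agent.Omega.MinPar Cfsg.Agent.Omega.FFThm
open Cfsg.Agent.Omega.Half (Amb)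
open Cfsg.Agent.Omega.Half.SymA (Pt E)
open Cfsg.Agent.Omega.BTwo Cfsg.Agent.Omega.HTwo Cfsg.Agent.Omega.HTwo.Par

universe u

variable {G : Type u} [Group G] {P V : Subgroup G} {k m : ℕ}

/-! ### The functions -/

section fn

variable {S : Sylow 2 G} {M : SymK (S : Subgroup G) P V ⊥ k m}

/-- a nonzero even function takes the value `0` on each block -/
theorem exists_zero (hm : 1 ≤ m) {f : G} (hf : f ∈ V) (i : Fin k) : ∃ x, E M f (i, x) = 0 := by
  by_contra hc
  push Not at hc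
  have h1 : ∀ x, x ≠ 0 → E M f (i, x) = 1 := fun x _ => by
    have := hc x
    revert this
    generalize E M f (i, x) = e
    revert e
    decide
  exact hc 0 (Half.SymA.even0 M hm hf h1)

/-- **a vector constant on `{a, b, c}` separates two letters outside `{a, b}`** -/
theorem exists_sep (hm : 1 ≤ m) {a b c : Pt k m} (hab : a.1 = b.1) (hac : a.1 = c.1) (nac : a ≠ c) (nbc : b ≠ c)
    {f : G} (hf : f ∈ V) (hf1 : f ≠ 1) (h1 : E M f a = E M f b) (h2 : E M f a = E M f c) :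
    ∃ p q : Pt k m, p.1 = q.1 ∧ p ≠ a ∧ p ≠ b ∧ q ≠ a ∧ q ≠ b ∧ E M f p ≠ E M f q := by
  have hb : ∀ e : ZMod 2, e ≠ 0 → e = 1 := by decide
  obtain ⟨p0, hp0⟩ : ∃ p0, E M f p0 ≠ 0 := by
    by_contra hc
    push Not at hc
    apply hf1
    refine Half.SymA.inj M hf (one_mem V) fun p => ?_
    rw [hc p]
    have := Half.SymA.E_mul M (one_mem V) (one_mem V) p
    rw [mul_one] at this
    revert this
    generalize E M 1 p = e
    revert e
    decide
  obtain ⟨x, hx⟩ := exists_zero (M := M) hm hf p0.1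
  by_cases hblk : p0.1 = a.1
  · rcases eq_or_ne (E M f a) 0 with h0 | h0
    · refine ⟨p0, c, hblk.trans hac, ?_, ?_, nac.symm, nbc.symm, ?_⟩
      · rintro rfl; exact hp0 h0
      · rintro rfl; exact hp0 (h1 ▸ h0)
      · rw [← h2, h0]; exact hp0
    · refine ⟨c, (p0.1, x), hac.symm.trans hblk.symm, nac.symm, nbc.symm, ?_, ?_, ?_⟩
      · intro e; rw [e] at hx; exact h0 hx
      · intro e; rw [e, ← h1] at hx; exact h0 hx
      · rw [← h2, hx]; exact h0
  · refine ⟨p0, (p0.1, x), rfl, ?_, ?_, ?_, ?_, ?_⟩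
    · rintro rfl; exact hblk rfl
    · rintro rfl; exact hblk hab.symm
    · intro e; exact hblk (by rw [← e])
    · intro e; exact hblk (by rw [hab, ← e])
    · rw [hx]; exact hp0

/-- a third letter -/
theorem exists_third (hm : 2 ≤ m) {a b p q : Pt k m} :
    ∃ w : Pt k m, w.1 = p.1 ∧ w ≠ a ∧ w ≠ b ∧ w ≠ p ∧ w ≠ q := by
  classical
  have h1 : ({a.2, b.2, p.2, q.2} : Finset (Fin (2 ^ m + 1))).card < Fintype.card (Fin (2 ^ m + 1)) := by
    have h2 : ({a.2, b.2, p.2, q.2} : Finset (Fin (2 ^ m + 1))).card ≤ 4 := Finset.card_le_four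
    have h3 : 2 ^ 2 ≤ 2 ^ m := Nat.pow_le_pow_right (by norm_num) hm
    rw [Fintype.card_fin]
    omega
  obtain ⟨x, hx⟩ := Finset.exists_mem_notMem_of_card_lt_card (s := {a.2, b.2, p.2, q.2}) (t := Finset.univ)
    (by rwa [Finset.card_univ])
  simp only [Finset.mem_univ, Finset.mem_insert, Finset.mem_singleton, not_or, true_and] at hx
  exact ⟨(p.1, x), rfl, fun e => hx.1 (by rw [← e]), fun e => hx.2.1 (by rw [← e]),
    fun e => hx.2.2.1 (by rw [← e]), fun e => hx.2.2.2 (by rw [← e])⟩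

end fn

/-! ### The facts about duads -/

/-- the facts about the duads used for LEMMA E: `Q_p = O₂(C_G(p))` acts on `V` inside `⟨t_p⟩`, `V ≤ Q_p`,
`p^⊥ ≤ Z(Q_p)` -/
structure Dd {S : Sylow 2 G} (M : SymK (S : Subgroup G) P V ⊥ k m) : Prop where
  act : ∀ p q : Pt k m, p.1 = q.1 → p ≠ q → ∀ g ∈ o2 (centralizer ({pr M p q} : Set G)),
    g ∈ P ∧ (pp M g = 1 ∨ pp M g = Equiv.swap p q)
  V_le : ∀ p q : Pt k m, p.1 = q.1 → p ≠ q → V ≤ o2 (centralizer ({pr M p q} : Set G))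
  perp : ∀ p q : Pt k m, p.1 = q.1 → p ≠ q → ∀ v ∈ V, E M v p = E M v q →
    ∀ g ∈ o2 (centralizer ({pr M p q} : Set G)), g * v = v * g

section main

variable [Finite G] {S : Sylow 2 G} {M : SymK (S : Subgroup G) P V ⊥ k m} (h : Sit S P V M)

include h

omit [Finite G] in
/-- `w_q` for `f ∈ V` : if `f` separates `p`, `q`, a subgroup normalised by `N` containing `f` contains the duad -/
theorem pr_mem_of {a b p q : Pt k m} (hab : a.1 = b.1) (hpq : p.1 = q.1) (hpa : p ≠ a) (hpb : p ≠ b) (hqa : q ≠ a)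
    (hqb : q ≠ b) {Λ : Subgroup G} (hN : centralizer ({pr M a b} : Set G) ≤ normalizer (Λ : Set G)) {f : G}
    (hf : f ∈ V) (hfΛ : f ∈ Λ) (hne : E M f p ≠ E M f q) : pr M p q ∈ Λ := by
  classical
  have key : ∀ r : Pt k m, (Equiv.swap p q r).1 = r.1 := by
    intro r
    rcases eq_or_ne r p with rfl | hx
    · rw [Equiv.swap_apply_left, hpq]
    · rcases eq_or_ne r q with rfl | hy
      · rw [Equiv.swap_apply_right, hpq]
      · rw [Equiv.swap_apply_of_ne_of_ne hx hy]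
  obtain ⟨g, hg, h4⟩ := h.exists_pp (π := Equiv.swap p q) key
  have hgr : g * pr M a b = pr M a b * g := by
    refine h.comm_pr hg hab (Or.inl ⟨?_, ?_⟩)
    · rw [h4, Equiv.swap_apply_of_ne_of_ne hpa.symm hqa.symm]
    · rw [h4, Equiv.swap_apply_of_ne_of_ne hpb.symm hqb.symm]
  have hgN : g ∈ centralizer ({pr M a b} : Set G) := by
    rw [mem_centralizer_iff]
    rintro _ rfl
    exact hgr.symm
  have h5 : g * f * g⁻¹ ∈ Λ := (mem_normalizer_iff.1 (hN hgN) f).1 hfΛ
  have h6 : pr M p q = f * (g * f * g⁻¹) := by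
    refine Half.SymA.inj M (pr_mem M _ _) (mul_mem hf (h.amb.conj_mem hg hf)) fun r => ?_
    rw [Half.SymA.E_mul M hf (h.amb.conj_mem hg hf), E_conj' hg hf, h4, E_pr M hpq]
    rw [Equiv.swap_inv]
    have h7 : ∀ x y : ZMod 2, x ≠ y → x + y = 1 := by decide
    have h8 : ∀ x : ZMod 2, x + x = 0 := by decide
    rcases eq_or_ne r p with rfl | hrp
    · rw [Equiv.swap_apply_left, if_pos rfl, if_neg (fun e => hne (by rw [e])), add_zero]
      exact (h7 _ _ hne).symm
    · rcases eq_or_ne r q with rfl | hrq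
      · rw [Equiv.swap_apply_right, if_pos rfl, if_neg hrp, zero_add]
        exact (h7 _ _ hne.symm).symm
      · rw [Equiv.swap_apply_of_ne_of_ne hrp hrq, if_neg hrp, if_neg hrq, add_zero]
        exact (h8 _).symm
  rw [h6]
  exact mul_mem hfΛ h5

omit [Finite G] in
/-- the other duads of the block -/
theorem pr_mem_of_pr {a b p q w : Pt k m} (hab : a.1 = b.1) (hpq : p.1 = q.1) (hwp : w.1 = p.1)
    (hqa : q ≠ a) (hqb : q ≠ b) (hwa : w ≠ a) (hwb : w ≠ b) (hne : p ≠ q) (hwp' : w ≠ p) (hwq : w ≠ q) {Λ : Subgroup G}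
    (hN : centralizer ({pr M a b} : Set G) ≤ normalizer (Λ : Set G)) (hΛ : pr M p q ∈ Λ) : pr M q w ∈ Λ := by
  refine pr_mem_of h hab (hpq.symm.trans hwp.symm) hqa hqb hwa hwb hN (pr_mem M p q) hΛ ?_
  rw [E_pr_right M hpq hne, E_pr_of_ne M hpq hwp' hwq]
  decide

omit [Finite G] in
/-- an element of `X` inducing a transposition -/
theorem exists_sw (D : Dd M) {p q w : Pt k m} (hpq : p.1 = q.1) (hpw : p.1 = w.1) (npq : p ≠ q)
    (npw : p ≠ w) {ι : Type*} {L : Subgroup G} {R : ι → Subgroup G} (B : BT L R)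
    {i j l : ι} (h0 : R i = zpowers (pr M p q)) (h1 : R j = zpowers (pr M p w)) (h2 : R l = zpowers (pr M q w))
    {g v : G} (hg : g ∈ normalizer (R i : Set G)) (hv : v ∈ L)
    (hgv : cj (g * v * g⁻¹) (R j) = R l) : g * v * g⁻¹ ∈ XX L R ∧ g * v * g⁻¹ ∈ P ∧
      pp M (g * v * g⁻¹) = Equiv.swap p q := by
  have hx : g * v * g⁻¹ ∈ WW L (R i) := cj_le_WW hg (conj_mem_cj hv)
  have hx1 : g * v * g⁻¹ ∈ o2 (centralizer ({pr M p q} : Set G)) := by
    have h3 : g * v * g⁻¹ ∈ o2 (normalizer (R i : Set G)) := B.W_le_Q i hx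
    rwa [h0, MinSimple.Basic.normalizer_zpowers_eq (by rw [pow_two]; exact h.Vsq (pr_mem M p q))] at h3
  obtain ⟨hP, h4⟩ := D.act p q hpq npq _ hx1
  refine ⟨W_le_X L R i hx, hP, h4.resolve_left fun h5 => ?_⟩
  have h6 := mem_centralizer_iff.1 ((h.eq_one_iff hP).1 h5) (pr M p w) (pr_mem M p w)
  have h7 : g * v * g⁻¹ * pr M p w * (g * v * g⁻¹)⁻¹ = pr M p w := by
    rw [← h6, mul_inv_cancel_right]
  have h8 : pr M p w ∈ R l := by
    rw [← hgv, ← h7]
    exact conj_mem_cj (by rw [h1]; exact mem_zpowers _)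
  have hjl : j ≠ l := by
    rintro rfl
    have h9 : pr M p w ∈ zpowers (pr M q w) := by rw [← h2, h1]; exact mem_zpowers _
    obtain ⟨n, hn⟩ := mem_zpowers_iff.1 h9
    have h10 := E_pr_left M hpw npw
    have e0 : E M (1 : G) p = 0 := by
      have := Half.SymA.E_mul M (one_mem V) (one_mem V) p
      rw [mul_one] at this
      revert this
      generalize E M 1 p = e
      revert e
      decide
    rw [← hn] at h10
    rcases Int.even_or_odd n with ⟨t, rfl⟩ | ⟨t, rfl⟩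
    · rw [← two_mul, zpow_mul, zpow_two, h.Vsq (pr_mem M q w), one_zpow, e0] at h10
      revert h10; decide
    · rw [zpow_add, zpow_mul, zpow_two, h.Vsq (pr_mem M q w), one_zpow, one_mul, zpow_one,
        E_pr_of_ne M (hpq.symm.trans hpw) npq npw] at h10
      revert h10; decide
  have h9 := B.eq_one hjl (a := pr M p w) (by rw [h1]; exact mem_zpowers _) h8
  have h10 := E_pr_left M hpw npw
  rw [h9] at h10
  have := Half.SymA.E_mul M (one_mem V) (one_mem V) p
  rw [mul_one, h10] at this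
  revert this
  decide

omit [Finite G] h in
/-- if the conjugate of a duad outside `{a, b}` under the partner is centralised by `X`: contradiction -/
theorem kill (D : Dd M) {a b p q : Pt k m} (hab : a.1 = b.1) (hpq : p.1 = q.1) (npq : p ≠ q) (hpa : p ≠ a)
    (hpb : p ≠ b) (hqa : q ≠ a) (hqb : q ≠ b) {ι : Type*} {L : Subgroup G} {R : ι → Subgroup G} (B : BT L R)
    (hLV : L ≤ V) {i0 i1 i2 : ι} (hi : i1 ≠ i2) (hr1 : pr M a b ≠ 1) {g v : G}
    (hgr : g * pr M a b * g⁻¹ = pr M a b) (hrR : pr M a b ∈ R i0) (hv : v ∈ L)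
    (hgv : cj (g * v * g⁻¹) (R i1) = R i2) (hX : g * pr M p q * g⁻¹ ∈ CenX L R) : False := by
  set r := pr M a b with hrdef
  set y := pr M p q with hy
  obtain ⟨x, hx, hxR⟩ := B.trans_X_one i0 i1
  set u := g⁻¹ * x * g with hu
  have huy : u * y = y * u := by
    have h1 := mem_centralizer_iff.1 hX x hx
    calc u * y = g⁻¹ * (x * (g * y * g⁻¹)) * g := by rw [hu]; group
      _ = g⁻¹ * ((g * y * g⁻¹) * x) * g := by rw [h1]
      _ = y * u := by rw [hu]; group
  have huC : u ∈ centralizer ({y} : Set G) := by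
    rw [mem_centralizer_iff]
    rintro _ rfl
    exact huy.symm
  have hEr : E M r p = E M r q := by
    rw [hrdef, E_pr_of_ne M hab hpa hpb, E_pr_of_ne M hab hqa hqb]
  have hrc := D.perp p q hpq npq r (pr_mem M a b) hEr
  have hvV : v ∈ V := hLV hv
  have hvQ : v ∈ o2 (centralizer ({y} : Set G)) := D.V_le p q hpq npq hvV
  -- `u r u⁻¹` commutes with `v`
  have h1 : v * (u * r * u⁻¹) = u * r * u⁻¹ * v := by
    have h2 : u⁻¹ * v * u ∈ o2 (centralizer ({y} : Set G)) :=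
      conj_inv_mem_of_normalizer (MinSimple.VModule.le_normalizer_o2 _ huC) hvQ
    have h3 := hrc _ h2
    calc v * (u * r * u⁻¹) = u * ((u⁻¹ * v * u) * r) * u⁻¹ := by group
      _ = u * (r * (u⁻¹ * v * u)) * u⁻¹ := by rw [h3]
      _ = u * r * u⁻¹ * v := by group
  have h4 : x * r * x⁻¹ ∈ R i1 := by rw [← hxR]; exact conj_mem_cj hrR
  have h5 : g * (u * r * u⁻¹) * g⁻¹ = x * r * x⁻¹ := by
    have h6 : g⁻¹ * r * g = r := by
      calc g⁻¹ * r * g = g⁻¹ * (g * r * g⁻¹) * g := by rw [hgr]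
        _ = r := by group
    calc g * (u * r * u⁻¹) * g⁻¹ = x * (g * r * g⁻¹) * x⁻¹ := by rw [hu]; group
      _ = x * r * x⁻¹ := by rw [hgr]
  have h6 : g * v * g⁻¹ * (x * r * x⁻¹) * (g * v * g⁻¹)⁻¹ = x * r * x⁻¹ := by
    calc g * v * g⁻¹ * (x * r * x⁻¹) * (g * v * g⁻¹)⁻¹
        = g * (v * (g⁻¹ * (x * r * x⁻¹) * g)) * v⁻¹ * g⁻¹ := by group
      _ = g * (v * (u * r * u⁻¹)) * v⁻¹ * g⁻¹ := by rw [← h5]; group
      _ = g * (u * r * u⁻¹ * v) * v⁻¹ * g⁻¹ := by rw [h1]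
      _ = x * r * x⁻¹ := by rw [← h5]; group
  have h7 : x * r * x⁻¹ ∈ R i2 := by
    rw [← hgv, ← h6]
    exact conj_mem_cj h4
  have h8 := B.eq_one hi h4 h7
  have h9 : r = 1 := by
    calc r = x⁻¹ * (x * r * x⁻¹) * x := by group
      _ = 1 := by rw [h8]; group
  exact hr1 h9

/-- **LEMMA E** (#19821, (LE)) -/
theorem le_all (D : Dd M) (zv : zc (o2 P) ≤ V) {a b c : Pt k m} (hab : a.1 = b.1) (hac : a.1 = c.1) (nab : a ≠ b)
    (nac : a ≠ c) (nbc : b ≠ c) {ι : Type*} {L : Subgroup G} {R : ι → Subgroup G} (B : BTS L R) {i0 i1 i2 : ι}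
    (h0 : R i0 = zpowers (pr M a b)) (h1 : R i1 = zpowers (pr M a c)) (h2 : R i2 = zpowers (pr M b c))
    (hTL : (S : Subgroup G) ⊓ centralizer ({pr M a b} : Set G) ≤ normalizer (L : Set G))
    (hQS : o2 (centralizer ({pr M a b} : Set G)) ≤ (S : Subgroup G)) (j : ι) : ThmA.LE L R j := by
  classical
  refine ThmA.le_all B.toBT (i := i0) (fun Λ hΛ hN => ?_) j
  by_contra hΛR
  set r := pr M a b with hr
  set T := (S : Subgroup G) ⊓ centralizer ({r} : Set G) with hT
  have hrV : r ∈ V := pr_mem M a b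
  have hrr : r * r = 1 := h.Vsq hrV
  have hz : ∀ x, ∀ y ∈ V, x ∈ zpowers y → x = 1 ∨ x = y := by
    intro x y hy hx
    obtain ⟨n, rfl⟩ := mem_zpowers_iff.1 hx
    rcases Int.even_or_odd n with ⟨t, rfl⟩ | ⟨t, rfl⟩
    · left; rw [← two_mul, zpow_mul, zpow_two, h.Vsq hy, one_zpow]
    · right; rw [zpow_add, zpow_mul, zpow_two, h.Vsq hy, one_zpow, one_mul, zpow_one]
  have hr1 : r ≠ 1 := by
    intro e
    have h3 := E_pr_left M hab nab
    rw [← hr, e] at h3
    have := Half.SymA.E_mul M (one_mem V) (one_mem V) a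
    rw [mul_one, h3] at this
    revert this
    decide
  have hi01 : i0 ≠ i1 := by
    rintro rfl
    have h3 : pr M a c ∈ zpowers r := by rw [← h0, h1]; exact mem_zpowers _
    rcases hz _ _ hrV h3 with h4 | h4
    · have h5 := E_pr_left M hac nac
      rw [h4] at h5
      have := Half.SymA.E_mul M (one_mem V) (one_mem V) a
      rw [mul_one, h5] at this
      revert this
      decide
    · have h5 := E_pr_right M hac nac
      rw [h4, hr, E_pr_of_ne M hab nac.symm nbc.symm] at h5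
      revert h5
      decide
  have hi02 : i0 ≠ i2 := by
    rintro rfl
    have h3 : pr M b c ∈ zpowers r := by rw [← h0, h2]; exact mem_zpowers _
    have hbc : b.1 = c.1 := hab.symm.trans hac
    rcases hz _ _ hrV h3 with h4 | h4
    · have h5 := E_pr_left M hbc nbc
      rw [h4] at h5
      have := Half.SymA.E_mul M (one_mem V) (one_mem V) b
      rw [mul_one, h5] at this
      revert this
      decide
    · have h5 := E_pr_right M hbc nbc
      rw [h4, hr, E_pr_of_ne M hab nac.symm nbc.symm] at h5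
      revert h5
      decide
  -- the normaliser of the point
  have hNr : normalizer (R i0 : Set G) = centralizer ({r} : Set G) := by
    rw [h0, MinSimple.Basic.normalizer_zpowers_eq (by rw [pow_two]; exact hrr)]
  have hrR : r ∈ R i0 := by rw [h0]; exact mem_zpowers r
  set K := centralizer ({r} : Set G) with hK
  rw [hNr] at hN
  have hRK : ∀ x, x ∈ R i0 → x = 1 ∨ x = r := fun x hx => hz _ _ hrV (by rwa [h0] at hx)
  have hKr : ∀ g ∈ K, g * r = r * g := fun g hg => (mem_centralizer_iff.1 hg r rfl).symm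
  -- `E = R i0 Λ`
  set Ξ := R i0 ⊔ Λ with hΞ
  have hKΞ : K ≤ normalizer (Ξ : Set G) := by
    intro g hg
    have hgR : g ∈ normalizer (R i0 : Set G) := by rw [hNr]; exact hg
    rw [← cj_eq_self_iff, hΞ, cj_sup, cj_eq_self_iff.2 hgR, cj_eq_self_iff.2 (hN hg)]
  have hΞm : ∀ l ∈ Ξ, ∃ a' ∈ R i0, a' * l ∈ CenX L R := by
    intro l hl
    have h3 : Ξ ≤ RC B.toBT i0 := by
      refine sup_le (fun a' ha => ⟨a'⁻¹, inv_mem ha, ?_⟩) hΛ
      rw [inv_mul_cancel]
      exact one_mem _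
    exact h3 hl
  have hE0 : Ξ ⊓ CenX L R ≠ ⊥ := by
    intro h'
    apply hΛR
    intro x hx
    obtain ⟨a', ha, hm⟩ := hΛ x hx
    have h3 : a' * x ∈ Ξ ⊓ CenX L R :=
      ⟨mul_mem ((le_sup_left : R i0 ≤ Ξ) ha) ((le_sup_right : Λ ≤ Ξ) hx), hm⟩
    rw [h', mem_bot, mul_eq_one_iff_eq_inv] at h3
    have h4 : x = a'⁻¹ := by rw [h3, inv_inv]
    rw [h4]; exact inv_mem ha
  have hTΞ : T ≤ normalizer ((Ξ ⊓ CenX L R : Subgroup G) : Set G) := by
    intro s hs
    have h3 := B.toBT.NV_le_NCenX (hTL hs)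
    rw [← cj_eq_self_iff, cj_inf, cj_eq_self_iff.2 (hKΞ hs.2), cj_eq_self_iff.2 h3]
  have hCT : Ξ ⊓ CenX L R ≤ T := by
    have h3 : CenX L R ≤ QQ (R i0) := (B.CenX_le_C).trans (iInf_le _ i0)
    have h4 : QQ (R i0) = o2 K := by
      change o2 (normalizer (R i0 : Set G)) = o2 K
      rw [hNr]
    rw [h4] at h3
    exact inf_le_right.trans (h3.trans (le_inf hQS (MinSimple.VModule.o2_le K)))
  have hTp : IsPGroup 2 T := S.isPGroup'.to_le inf_le_left
  obtain ⟨f, hf, hf1, hff, hfT⟩ := HT.LemE.exists_inv hTp hE0 hCT hTΞ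
  -- `f ∈ V`
  have hfV : f ∈ V := by
    have hQT : o2 P ≤ T := by
      refine le_inf h.QS fun g hg => ?_
      rw [mem_centralizer_iff]
      rintro _ rfl
      exact (mem_centralizer_iff.1 ((h.Q_eq.le hg).2) r hrV)
    have h3 : f ∈ centralizer (o2 P : Set G) := by
      rw [mem_centralizer_iff]
      exact fun g hg => (hfT g (hQT hg)).symm
    have h4 : f ∈ zc (o2 P) :=
      MinSimple.VModule.mem_zc.2 ⟨h.cQ h3, fun g hg => mem_centralizer_iff.1 h3 g hg,
        by rw [pow_two]; exact hff⟩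
    exact zv h4
  have hfX : f ∈ CenX L R := hf.2
  -- `V`-action of `X`
  have hXK : ∀ i, WW L (R i) ≤ XX L R := fun i => W_le_X L R i
  have hQi : ∀ i, WW L (R i) ≤ QQ (R i) := B.toBT.W_le_Q
  have hLV : L ≤ V := by
    rw [← B.toBT.R_sup i0 i1 hi01, h0, h1]
    exact sup_le (zpowers_le.2 hrV) (zpowers_le.2 (pr_mem M a c))
  have hbc : b.1 = c.1 := hab.symm.trans hac
  have e1 : ∀ p : Pt k m, E M (1 : G) p = 0 := by
    intro p
    have := Half.SymA.E_mul M (one_mem V) (one_mem V) p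
    rw [mul_one] at this
    revert this
    generalize E M 1 p = e
    revert e
    decide
  have hi12 : i1 ≠ i2 := by
    rintro rfl
    have h3 : pr M b c ∈ zpowers (pr M a c) := by rw [← h1, h2]; exact mem_zpowers _
    have h5 := E_pr_left M hbc nbc
    rcases hz _ _ (pr_mem M a c) h3 with h4 | h4
    · rw [h4, e1] at h5
      revert h5; decide
    · rw [h4, E_pr_of_ne M hac nab.symm nbc] at h5
      revert h5; decide
  -- elements of `X` swapping two letters
  obtain ⟨g, hgN, hgt⟩ := B.toBT.mt i0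
  obtain ⟨⟨v, hvL, hv⟩, -⟩ := hgt i1 i2 hi01.symm hi02.symm
  obtain ⟨hx1, hx1P, hx1s⟩ := exists_sw h D hab hac nab nac B.toBT h0 h1 h2 hgN hvL hv
  obtain ⟨g', hgN', hgt'⟩ := B.toBT.mt i2
  obtain ⟨⟨v', hvL', hv'⟩, -⟩ := hgt' i1 i0 hi12 hi02
  have h2' : R i2 = zpowers (pr M c b) := by rw [h2, pr_comm M hbc]
  have h1' : R i1 = zpowers (pr M c a) := by rw [h1, pr_comm M hac]
  have h0' : R i0 = zpowers (pr M b a) := by rw [h0, hr, pr_comm M hab]
  obtain ⟨hx2, hx2P, hx2s⟩ := exists_sw h D hbc.symm hac.symm nbc.symm nac.symm B.toBT h2' h1' h0' hgN' hvL' hv'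
  have hEf : ∀ x ∈ XX L R, x ∈ P → ∀ p, E M f (pp M x p) = E M f p := fun x hx hxP =>
    (h.comm_iff hxP hfV).1 (mem_centralizer_iff.1 hfX x hx)
  have hE1 : E M f a = E M f b := by
    have := hEf _ hx1 hx1P b
    rwa [hx1s, Equiv.swap_apply_right] at this
  have hE2 : E M f b = E M f c := by
    have := hEf _ hx2 hx2P c
    rwa [hx2s, Equiv.swap_apply_left] at this
  obtain ⟨p, q, hpq, hpa, hpb, hqa, hqb, hne⟩ := exists_sep (M := M) h.hm1 hab hac nac nbc hfV hf1 hE1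
    (hE1.trans hE2)
  have npq : p ≠ q := fun e => hne (by rw [e])
  obtain ⟨w, hwp, hwa, hwb, hwp', hwq⟩ := exists_third h.hm (a := a) (b := b) (p := p) (q := q)
  -- three duads
  have m1 : pr M p q ∈ Ξ := pr_mem_of h hab hpq hpa hpb hqa hqb hKΞ hfV hf.1 hne
  have m2 : pr M q w ∈ Ξ := pr_mem_of_pr h hab hpq hwp hqa hqb hwa hwb npq hwp' hwq hKΞ m1
  have m3 : pr M p w ∈ Ξ := by
    rw [← pr_mul M hpq (hpq.symm.trans hwp.symm)]
    exact mul_mem m1 m2
  have hgK : g ∈ K := by rw [← hNr]; exact hgN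
  have hgr : g * r * g⁻¹ = r := by rw [hKr g hgK, mul_inv_cancel_right]
  have hcase : ∀ y ∈ Ξ, g * y * g⁻¹ ∈ CenX L R ∨ r * (g * y * g⁻¹) ∈ CenX L R := by
    intro y hy
    obtain ⟨a', ha', hm'⟩ := hΞm _ (conj_mem_of_normalizer (hKΞ hgK) hy)
    rcases hRK a' ha' with rfl | rfl
    · rw [one_mul] at hm'; exact Or.inl hm'
    · exact Or.inr hm'
  have hkill : ∀ p q : Pt k m, p.1 = q.1 → p ≠ q → p ≠ a → p ≠ b → q ≠ a → q ≠ b →
      g * pr M p q * g⁻¹ ∈ CenX L R → False := fun p q e1 e2 e3 e4 e5 e6 e7 =>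
    kill D hab e1 e2 e3 e4 e5 e6 B.toBT hLV hi12 hr1 hgr hrR hvL hv e7
  have hrc : ∀ y ∈ V, r * (g * y * g⁻¹) = g * y * g⁻¹ * r := by
    intro y hy
    calc r * (g * y * g⁻¹) = (g * r * g⁻¹) * (g * y * g⁻¹) := by rw [hgr]
      _ = g * (r * y) * g⁻¹ := by group
      _ = g * (y * r) * g⁻¹ := by rw [h.Vcomm hrV hy]
      _ = g * y * g⁻¹ * (g * r * g⁻¹) := by group
      _ = g * y * g⁻¹ * r := by rw [hgr]
  rcases hcase _ m1 with c1 | c1
  · exact hkill p q hpq npq hpa hpb hqa hqb c1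
  rcases hcase _ m2 with c2 | c2
  · exact hkill q w (hpq.symm.trans hwp.symm) hwq.symm hqa hqb hwa hwb c2
  rcases hcase _ m3 with c3 | c3
  · exact hkill p w hwp.symm hwp'.symm hpa hpb hwa hwb c3
  -- `r ∈ C_X`
  have hrX : r ∈ CenX L R := by
    have h3 := mul_mem (mul_mem c1 c2) c3
    have h4 : r * (g * pr M p q * g⁻¹) * (r * (g * pr M q w * g⁻¹)) * (r * (g * pr M p w * g⁻¹)) = r := by
      have h5 : pr M p q * pr M q w * pr M p w = 1 := by
        rw [pr_mul M hpq (hpq.symm.trans hwp.symm)]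
        exact h.Vsq (pr_mem M p w)
      calc r * (g * pr M p q * g⁻¹) * (r * (g * pr M q w * g⁻¹)) * (r * (g * pr M p w * g⁻¹))
          = r * ((g * pr M p q * g⁻¹) * r) * (g * pr M q w * g⁻¹) * (r * (g * pr M p w * g⁻¹)) := by group
        _ = r * (r * (g * pr M p q * g⁻¹)) * (g * pr M q w * g⁻¹) * (r * (g * pr M p w * g⁻¹)) := by
            rw [hrc _ (pr_mem M p q)]
        _ = (r * r) * (g * (pr M p q * pr M q w) * g⁻¹) * (r * (g * pr M p w * g⁻¹)) := by group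
        _ = (g * (pr M p q * pr M q w) * g⁻¹ * r) * (g * pr M p w * g⁻¹) := by rw [hrr]; group
        _ = r * (g * (pr M p q * pr M q w) * g⁻¹) * (g * pr M p w * g⁻¹) := by
            rw [hrc _ (mul_mem (pr_mem M p q) (pr_mem M q w))]
        _ = r * (g * (pr M p q * pr M q w * pr M p w) * g⁻¹) := by group
        _ = r := by rw [h5]; group
    rwa [h4] at h3
  obtain ⟨x, hx, hxR⟩ := B.toBT.trans_X_one i0 i1
  have h3 : x * r * x⁻¹ = r := by rw [mem_centralizer_iff.1 hrX x hx, mul_inv_cancel_right]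
  have h4 : r ∈ R i1 := by
    rw [← hxR, ← h3]
    exact conj_mem_cj hrR
  exact hr1 (B.toBT.eq_one hi01 hrR h4)

end main

end Cfsg.Agent.Omega.IId.SymWr.Ht.LE
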