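import Cfsg.Agent.Omega.IId.SymWr.TwoAct
import Cfsg.Agent.Omega.IId.SymWr.LMain
import Cfsg.Agent.Omega.FFMutual

/-!
# II.d, `SwBig`, T-T: the elements `σ_l` and the stabiliser count (bb OMEGA #20137 (10), #20345 (II))

* `card_le_of_stab` : `S` Sylow, `S` transitive on the set `X` of elements: a 2-group `R ≤ N_G(X)` centralising `a ∈ X`
  has order `≤ |C_S(a)|`;
* `sl h l` : the element `σ_l` of `V` (the nonzero points of the summand `l`); `comm_sl_iff`, `mem_stabB_iff`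
  (`stabB h (l, 0) = C_S(σ_l)`), `mem_of_fix` : a 2-element `r ∈ N_G(C_S(σ_l))` which centralises all `σ_j` lies in `S`;
* `fix_center` : the centre of a transvection is fixed by everything that commutes with it modulo the kernel.
-/

set_option autoImplicit false
set_option linter.unusedSectionVars false

namespace Cfsg.Agent.Omega.IId.SymWr.Ht

open Subgroup Cfsg Cfsg.Agent.ZN Cfsg.Agent.Omega.MinPar Cfsg.Agent.Omega.FFThm
open Cfsg.Agent.Omega.Half (Amb amb_of_loc)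
open Cfsg.Agent.Omega.Half.SymA (Pt E Mv pm)
open Cfsg.Agent.MinSimple.VModule (le_normalizer_o2 o2_isPGroup o2_le)

universe u

variable {G : Type u} [Group G]

/-- the stabiliser count -/
theorem card_le_of_stab [Finite G] (S : Sylow 2 G) {X : Set G} (hS : (S : Subgroup G) ≤ normalizer X)
    (htr : ∀ a ∈ X, ∀ b ∈ X, ∃ s ∈ (S : Subgroup G), s * a * s⁻¹ = b) {R : Subgroup G} (hR : IsPGroup 2 R)
    (hRX : R ≤ normalizer X) {a : G} (ha : a ∈ X) (hRa : ∀ r ∈ R, r * a = a * r) :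
    Nat.card R ≤ Nat.card ((S : Subgroup G) ⊓ centralizer ({a} : Set G) : Subgroup G) := by
  obtain ⟨g, hg, h1⟩ := Half.SymA.exists_conj_le S hS hR hRX
  have hb : g * a * g⁻¹ ∈ X := (mem_set_normalizer_iff.1 hg a).1 ha
  obtain ⟨s, hs, h2⟩ := htr _ hb a ha
  have hmem : ∀ x ∈ R, (s * g) * x * (s * g)⁻¹ ∈ (S : Subgroup G) ⊓ centralizer ({a} : Set G) := by
    intro x hx
    refine mem_inf.2 ⟨?_, ?_⟩
    · have e : (s * g) * x * (s * g)⁻¹ = s * (g * x * g⁻¹) * s⁻¹ := by group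
      rw [e]
      exact mul_mem (mul_mem hs (h1 x hx)) (inv_mem hs)
    · rw [mem_centralizer_singleton_iff]
      have e : (s * g) * a * (s * g)⁻¹ = a := by
        calc (s * g) * a * (s * g)⁻¹ = s * (g * a * g⁻¹) * s⁻¹ := by group
          _ = a := h2
      have hxa := hRa x hx
      calc (s * g) * x * (s * g)⁻¹ * a = (s * g) * x * (s * g)⁻¹ * ((s * g) * a * (s * g)⁻¹) := by rw [e]
        _ = (s * g) * (x * a) * (s * g)⁻¹ := by group
        _ = (s * g) * (a * x) * (s * g)⁻¹ := by rw [hxa]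
        _ = ((s * g) * a * (s * g)⁻¹) * ((s * g) * x * (s * g)⁻¹) := by group
        _ = a * ((s * g) * x * (s * g)⁻¹) := by rw [e]
  exact Nat.card_le_card_of_injective
    (fun x : R => (⟨(s * g) * x * (s * g)⁻¹, hmem x x.2⟩ : ((S : Subgroup G) ⊓ centralizer ({a} : Set G) : Subgroup G)))
    (fun x y hxy => Subtype.ext (by
      have h3 := congrArg Subtype.val hxy
      exact mul_left_cancel (mul_right_cancel h3)))

/-- `t` acts on the elements of `X` as a transvection with centre `q`, `r` commutes with `t` on `X`: `r` fixes `q` -/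
theorem fix_center {r t w q : G} {X : Set G} (hq : q ≠ 1) (hw : w ∈ X) (htw : t * w * t⁻¹ = w * q)
    (hrX : ∀ v ∈ X, r * v * r⁻¹ ∈ X) (ht : ∀ v ∈ X, t * v * t⁻¹ = v ∨ t * v * t⁻¹ = v * q)
    (htX : ∀ v ∈ X, t * v * t⁻¹ ∈ X) (hc : ∀ v ∈ X, (r * t * r⁻¹ * t⁻¹) * v = v * (r * t * r⁻¹ * t⁻¹)) :
    r * q = q * r := by
  have h1 : r * (t * w * t⁻¹) * r⁻¹ = t * (r * w * r⁻¹) * t⁻¹ := by
    have h2 := hc _ (htX _ (hrX w hw))
    calc r * (t * w * t⁻¹) * r⁻¹ =
        (r * t * r⁻¹ * t⁻¹) * (t * (r * w * r⁻¹) * t⁻¹) * (r * t * r⁻¹ * t⁻¹)⁻¹ := by group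
      _ = t * (r * w * r⁻¹) * t⁻¹ * (r * t * r⁻¹ * t⁻¹) * (r * t * r⁻¹ * t⁻¹)⁻¹ := by rw [h2]
      _ = _ := by group
  rw [htw] at h1
  have h3 : r * (w * q) * r⁻¹ = (r * w * r⁻¹) * (r * q * r⁻¹) := by group
  rw [h3] at h1
  rcases ht _ (hrX w hw) with h4 | h4
  · rw [h4] at h1
    have h5 : r * q * r⁻¹ = 1 := mul_eq_left.1 h1
    exact absurd (conj_eq_one_iff.1 h5) hq
  · rw [h4] at h1
    have h5 := mul_left_cancel h1
    rwa [mul_inv_eq_iff_eq_mul] at h5

section sl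

variable {P V : Subgroup G} {k m : ℕ} {S : Sylow 2 G} {M : SymK (S : Subgroup G) P V ⊥ k m} (h : Sit S P V M)

/-- the element `σ_l` -/
noncomputable def sl (h : Sit S P V M) (l : Fin k) : G := (sg h l).val

theorem sl_mem (l : Fin k) : sl h l ∈ V := sg_mem h l

theorem E_sl (l : Fin k) (p : Pt k m) : E M (sl h l) p = if p.1 = l then (if p.2 = 0 then 0 else 1) else 0 :=
  E_sg h l p

theorem E_sl_one {l : Fin k} {p : Pt k m} : E M (sl h l) p = 1 ↔ p.1 = l ∧ p.2 ≠ 0 := by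
  rw [E_sl]
  by_cases h1 : p.1 = l
  · by_cases h2 : p.2 = 0
    · rw [if_pos h1, if_pos h2]
      exact iff_of_false zero_ne_one fun h3 => h3.2 h2
    · rw [if_pos h1, if_neg h2]
      exact iff_of_true rfl ⟨h1, h2⟩
  · rw [if_neg h1]
    exact iff_of_false zero_ne_one fun h3 => h1 h3.1

include h in
theorem exists_nz : ∃ c : Fin (2 ^ m + 1), c ≠ 0 := by
  obtain ⟨c, hc, -⟩ := Half.SymA.exists_third h.hm1 0 0
  exact ⟨c, hc⟩

theorem sl_ne (l : Fin k) : sl h l ≠ 1 := by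
  obtain ⟨c, hc⟩ := exists_nz h
  intro e
  have h1 : E M (sl h l) (l, c) = 1 := (E_sl_one h).2 ⟨rfl, hc⟩
  rw [e, Half.SymA.E_one] at h1
  exact zero_ne_one h1

theorem sl_sq (l : Fin k) : sl h l * sl h l = 1 := h.Vsq (sl_mem h l)

theorem sl_inj {l l' : Fin k} (e : sl h l = sl h l') : l = l' := by
  obtain ⟨c, hc⟩ := exists_nz h
  have h1 : E M (sl h l) (l, c) = 1 := (E_sl_one h).2 ⟨rfl, hc⟩
  rw [e] at h1
  exact ((E_sl_one h).1 h1).1

/-- `g ∈ P` commutes with `σ_l` iff it fixes the point `(l, 0)` -/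
theorem comm_sl_iff {g : G} (hg : g ∈ P) {l : Fin k} : g * sl h l = sl h l * g ↔ pp M g (l, 0) = (l, 0) := by
  obtain ⟨c, hc⟩ := exists_nz h
  rw [h.comm_iff hg (sl_mem h l)]
  constructor
  · intro h1
    have h2 : E M (sl h l) (pp M g (l, c)) = 1 := by rw [h1]; exact (E_sl_one h).2 ⟨rfl, hc⟩
    have h3 : (pp M g (l, 0)).1 = l := (h.fst hg (p := (l, 0)) (q := (l, c)) rfl).trans ((E_sl_one h).1 h2).1
    have h4 : (pp M g (l, 0)).2 = 0 := by
      by_contra h5
      have h6 := (E_sl_one h).2 ⟨h3, h5⟩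
      rw [h1, E_sl_one] at h6
      exact h6.2 rfl
    exact Prod.ext h3 h4
  · intro h1 p
    have key : ∀ a b : ZMod 2, (a = 1 ↔ b = 1) → a = b := by decide
    apply key
    rw [E_sl_one, E_sl_one]
    have h2 : (pp M g p).1 = l ↔ p.1 = l := by
      have h3 := pp_fst_iff h.amb h.hm1 (M := M) hg (p := p) (q := (l, 0))
      rwa [h1] at h3
    have h3 : p.1 = l → ((pp M g p).2 = 0 ↔ p.2 = 0) := by
      intro h4
      constructor
      · intro h5
        have h6 : pp M g p = pp M g (l, 0) := by rw [h1]; exact Prod.ext (h2.2 h4) h5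
        rw [(pp M g).injective h6]
      · intro h5
        have h6 : p = (l, 0) := Prod.ext h4 h5
        rw [h6, h1]
    rw [h2]
    constructor
    · rintro ⟨h4, h5⟩
      exact ⟨h4, fun h6 => h5 ((h3 h4).2 h6)⟩
    · rintro ⟨h4, h5⟩
      exact ⟨h4, fun h6 => h5 ((h3 h4).1 h6)⟩

theorem conj_sl {s : G} (hs : s ∈ (S : Subgroup G)) (l : Fin k) :
    s * sl h l * s⁻¹ = sl h (pp M s (l, 0)).1 := by
  refine Half.SymA.inj M (h.amb.conj_mem (h.SP hs) (sl_mem h l)) (sl_mem h _) fun q => ?_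
  obtain ⟨p, rfl⟩ := (pp M s).surjective q
  rw [E_conj (h.SP hs) (sl_mem h l)]
  have key : ∀ a b : ZMod 2, (a = 1 ↔ b = 1) → a = b := by decide
  apply key
  rw [E_sl_one, E_sl_one]
  have h2 : (pp M s p).1 = (pp M s (l, 0)).1 ↔ p.1 = l :=
    pp_fst_iff h.amb h.hm1 (M := M) (h.SP hs) (p := p) (q := (l, 0))
  rw [h2, Ne, Ne, h.snd hs]

theorem mem_stabB_iff {l : Fin k} {s : G} :
    s ∈ stabB h (l, 0) ↔ s ∈ (S : Subgroup G) ∧ s * sl h l = sl h l * s := by
  rw [mem_stabB]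
  refine and_congr_right fun hs => ?_
  rw [comm_sl_iff h (h.SP hs)]
  constructor
  · intro h1
    exact Prod.ext h1 ((h.snd hs).2 rfl)
  · intro h1
    rw [h1]

theorem stabB_eq (l : Fin k) : stabB h (l, 0) = (S : Subgroup G) ⊓ centralizer ({sl h l} : Set G) := by
  ext s
  rw [mem_stabB_iff, mem_inf, mem_centralizer_singleton_iff]

theorem stabB_le (l : Fin k) : stabB h (l, 0) ≤ (S : Subgroup G) := fun _ hs => hs.1

theorem stabB_le_cen (l : Fin k) : stabB h (l, 0) ≤ centralizer ({sl h l} : Set G) := by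
  rw [stabB_eq]; exact inf_le_right

theorem Q_le_stabB (l : Fin k) : o2 P ≤ stabB h (l, 0) := fun q hq =>
  (mem_stabB_iff h).2 ⟨h.QS hq, (mem_zc.1 (h.VZ (sl_mem h l))).2.1 q hq⟩

variable [Finite G]

/-- **the stabiliser count**: a 2-element which normalises `C_S(σ_l)` and centralises all `σ_j` lies in `S` -/
theorem mem_of_fix {l : Fin k} {r : G} (h2 : IsPGroup 2 (stabB h (l, 0) ⊔ zpowers r : Subgroup G))
    (hr : ∀ j, r * sl h j = sl h j * r) : r ∈ stabB h (l, 0) := by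
  set T := stabB h (l, 0) with hT
  by_contra h0
  have hlt : T < T ⊔ zpowers r := by
    refine lt_of_le_of_ne le_sup_left fun e => h0 ?_
    rw [e]
    exact mem_sup_right (mem_zpowers r)
  have hSX : (S : Subgroup G) ≤ normalizer (Set.range (sl h)) := by
    have key : ∀ s ∈ (S : Subgroup G), ∀ a ∈ Set.range (sl h), s * a * s⁻¹ ∈ Set.range (sl h) := by
      rintro s hs _ ⟨j, rfl⟩
      exact ⟨_, (conj_sl h hs j).symm⟩
    intro s hs
    rw [mem_set_normalizer_iff]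
    intro a
    refine ⟨key s hs a, fun ha => ?_⟩
    have h3 := key _ (inv_mem hs) _ ha
    have e : s⁻¹ * (s * a * s⁻¹) * s⁻¹⁻¹ = a := by group
    rwa [e] at h3
  have hrX : r ∈ normalizer (Set.range (sl h)) := by
    rw [mem_set_normalizer_iff]
    intro a
    constructor
    · rintro ⟨j, rfl⟩
      exact ⟨j, by rw [hr j, mul_inv_cancel_right]⟩
    · rintro ⟨j, hj⟩
      refine ⟨j, ?_⟩
      have h3 : r⁻¹ * sl h j * r = sl h j := by rw [mul_assoc, ← hr j, inv_mul_cancel_left]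
      rw [hj] at h3
      rw [hj, ← h3]
      group
  have h3 := card_le_of_stab S hSX (X := Set.range (sl h)) (a := sl h l) (R := T ⊔ zpowers r) ?_ h2 ?_ ⟨l, rfl⟩ ?_
  · rw [← stabB_eq h l] at h3
    have h4 : T = T ⊔ zpowers r := eq_of_le_of_card_ge le_sup_left h3
    exact hlt.ne h4
  · rintro _ ⟨i, rfl⟩ _ ⟨j, rfl⟩
    obtain ⟨c, hc⟩ := exists_nz h
    obtain ⟨s, hs, h4⟩ := h.trans (p := (i, c)) (q := (j, c)) hc hc
    refine ⟨s, hs, ?_⟩
    rw [conj_sl h hs i]
    have h5 := h.fst (h.SP hs) (p := (i, 0)) (q := (i, c)) rfl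
    rw [h5, h4]
  · refine sup_le ((stabB_le h l).trans hSX) ?_
    rw [zpowers_le]
    exact hrX
  · have h4 : T ⊔ zpowers r ≤ centralizer ({sl h l} : Set G) := by
      refine sup_le (stabB_le_cen h l) ?_
      rw [zpowers_le, mem_centralizer_singleton_iff]
      exact hr l
    intro x hx
    exact mem_centralizer_singleton_iff.1 (h4 hx)

end sl

end Cfsg.Agent.Omega.IId.SymWr.Ht
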