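import Cfsg.Agent.Omega.IId.SymWr.Ht.Line

/-!
# II.d, `SwBig`, T-T: membership in `Q_n = O₂(C_G(n))`, `n = pr M p q` a duad

* `chain` : stability of the chain `Q ≥ Ω₁(Z(Q)) ≥ 1`, `Q = O₂(C_G(u))`;
* `le_o2_of`, `mem_S_of` : 2-groups of elements of `P`;
* `Fr.B_le_C`, `Fr.B_le_Q`, `Fr.key`, `Fr.E_eq`, `Fr.KK_act`, `Fr.Qn_le_tn` : `U_n = Ω₁(Z(Q_n)) ≤ O₂(P) ⊓ C_G(V)`; (F): `y ∈ U_p`,
  `[y, U_r] = 1`, `p ∈ U_r` imply `y ∈ Q_r`; `Q_n ≤ C_S(n)` for the pairs of `S`.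
-/

set_option autoImplicit false
set_option linter.unusedSectionVars false

namespace Cfsg.Agent.Omega.IId.SymWr.Ht

open Subgroup Pointwise Cfsg Cfsg.Agent.Omega.MinPar Cfsg.Agent.Omega.FFThm
open Cfsg.Agent.ZN (o2 zc zl)
open Cfsg.Agent.Omega.Half (Amb amb_of_loc)
open Cfsg.Agent.Omega.Half.SymA (Pt E Mv pm)
open Cfsg.Agent.Omega.IId.Triangle (KK mem_KK KK_conj mem_zpowers_iff_of_sq)
open Cfsg.Agent.MinSimple.VModule (mem_zc zc_le zc_comm zc_sq zc_le_zl le_normalizer_o2 o2_isPGroup o2_le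
  normalizer_le_normalizer_zc le_normalizer_zl)

universe u

variable {G : Type u} [Group G] {P V : Subgroup G} {k m : ℕ}

section general

variable [Finite G]

/-- **stability**: `y ∈ C_G(u)`, `[y, Q] ≤ Ω₁(Z(Q))` and `[y, Ω₁(Z(Q))] = 1`, `Q = O₂(C_G(u))`, imply `y ∈ Q` -/
theorem chain (hc : IsCharacteristicTwoType G) {u : G} (hu : u * u = 1) (hu1 : u ≠ 1) {y : G}
    (hy : y ∈ centralizer ({u} : Set G))
    (h1 : ∀ x ∈ o2 (centralizer ({u} : Set G)), y * x * y⁻¹ * x⁻¹ ∈ zc (o2 (centralizer ({u} : Set G))))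
    (h2 : ∀ x ∈ zc (o2 (centralizer ({u} : Set G))), y * x = x * y) : y ∈ o2 (centralizer ({u} : Set G)) := by
  set C := centralizer ({u} : Set G) with hC
  have hCQ := le_normalizer_o2 C
  have hCZ : C ≤ normalizer (zc (o2 C) : Set G) := hCQ.trans (normalizer_le_normalizer_zc _)
  let A : Subgroup G :=
    { carrier := {g | g ∈ C ∧ (∀ x ∈ o2 C, g * x * g⁻¹ * x⁻¹ ∈ zc (o2 C)) ∧ ∀ x ∈ zc (o2 C), g * x = x * g}
      one_mem' := ⟨one_mem _, fun x _ => by simp, fun x _ => by simp⟩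
      mul_mem' := by
        rintro a b ⟨ha, ha1, ha2⟩ ⟨hb, hb1, hb2⟩
        refine ⟨mul_mem ha hb, fun x hx => ?_, fun x hx => ?_⟩
        · have e : a * b * x * (a * b)⁻¹ * x⁻¹ =
              a * (b * x * b⁻¹ * x⁻¹) * a⁻¹ * (a * x * a⁻¹ * x⁻¹) := by group
          rw [e]
          exact mul_mem ((mem_normalizer_iff.1 (hCZ ha) _).1 (hb1 x hx)) (ha1 x hx)
        · rw [mul_assoc, hb2 x hx, ← mul_assoc, ha2 x hx, mul_assoc]
      inv_mem' := by
        rintro a ⟨ha, ha1, ha2⟩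
        refine ⟨inv_mem ha, fun x hx => ?_, fun x hx => ?_⟩
        · have h3 : a⁻¹ * x * a⁻¹⁻¹ ∈ o2 C := (mem_normalizer_iff.1 (hCQ (inv_mem ha)) x).1 hx
          have h4 := inv_mem (ha1 _ h3)
          have e : (a * (a⁻¹ * x * a⁻¹⁻¹) * a⁻¹ * (a⁻¹ * x * a⁻¹⁻¹)⁻¹)⁻¹ = a⁻¹ * x * a⁻¹⁻¹ * x⁻¹ := by group
          rwa [e] at h4
        · have h3 := ha2 x hx
          calc a⁻¹ * x = a⁻¹ * (x * a) * a⁻¹ := by group
            _ = a⁻¹ * (a * x) * a⁻¹ := by rw [h3]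
            _ = x * a⁻¹ := by group }
  have hAC : A ≤ C := fun g hg => hg.1
  have hn : C ≤ normalizer (A : Set G) := by
    intro c hc
    refine MinSimple.VModule.mem_normalizer_of_map_le ?_
    rintro _ ⟨g, ⟨hg, hg1, hg2⟩, rfl⟩
    change c * g * c⁻¹ ∈ A
    refine ⟨mul_mem (mul_mem hc hg) (inv_mem hc), fun x hx => ?_, fun x hx => ?_⟩
    · have h3 : c⁻¹ * x * c⁻¹⁻¹ ∈ o2 C := (mem_normalizer_iff.1 (hCQ (inv_mem hc)) x).1 hx
      have h4 := (mem_normalizer_iff.1 (hCZ hc) _).1 (hg1 _ h3)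
      have e : c * (g * (c⁻¹ * x * c⁻¹⁻¹) * g⁻¹ * (c⁻¹ * x * c⁻¹⁻¹)⁻¹) * c⁻¹ =
          c * g * c⁻¹ * x * (c * g * c⁻¹)⁻¹ * x⁻¹ := by group
      rwa [e] at h4
    · have h3 : c⁻¹ * x * c⁻¹⁻¹ ∈ zc (o2 C) := (mem_normalizer_iff.1 (hCZ (inv_mem hc)) x).1 hx
      have h4 := hg2 _ h3
      calc c * g * c⁻¹ * x = c * (g * (c⁻¹ * x * c⁻¹⁻¹)) * c⁻¹ := by group
        _ = c * (c⁻¹ * x * c⁻¹⁻¹ * g) * c⁻¹ := by rw [h4]
        _ = x * (c * g * c⁻¹) := by group
  have hp : IsPGroup 2 A := by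
    rintro ⟨g, hg, hg1, hg2⟩
    have h2' : g * g ∈ o2 C := by
      refine MinSimple.Geo.inf_centralizer_o2_le hc (MinSimple.Geo.isTwoLocal_centralizer hu hu1)
        ⟨mul_mem hg hg, ?_⟩
      refine mem_centralizer_iff.mpr fun x hx => ?_
      set z := g * x * g⁻¹ * x⁻¹ with hz
      have hzz := hg1 x hx
      have h7 : z * z = 1 := by
        have := zc_sq (o2 C) z hzz
        rwa [pow_two] at this
      have h5 : g * x = z * x * g := by rw [hz]; group
      have h6 : g * z = z * g := hg2 z hzz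
      symm
      calc g * g * x = g * (g * x) := by group
        _ = (g * z) * x * g := by rw [h5]; group
        _ = z * (g * x) * g := by rw [h6]; group
        _ = (z * z) * x * (g * g) := by rw [h5]; group
        _ = x * (g * g) := by rw [h7, one_mul]
    obtain ⟨n, hn⟩ := (o2_isPGroup C) ⟨_, h2'⟩
    refine ⟨n + 1, ?_⟩
    have hn' : (g * g) ^ 2 ^ n = 1 := by simpa using congrArg Subtype.val hn
    ext
    change g ^ 2 ^ (n + 1) = 1
    rw [pow_succ, mul_comm (2 ^ n), pow_mul, pow_two]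
    exact hn'
  have hAle : A ≤ o2 C := MinSimple.VModule.le_o2 hAC hp hn
  exact hAle ⟨hy, h1, h2⟩

end general

section duad

variable [Finite G] {S : Sylow 2 G} {M : SymK (S : Subgroup G) P V ⊥ k m} (h : Sit S P V M)

include h

omit [Finite G] h in
/-- two duads -/
theorem pr_eq_iff {p q r s : Pt k m} (hpq : p.1 = q.1) (hne : p ≠ q) (hrs : r.1 = s.1) :
    pr M p q = pr M r s ↔ (r = p ∧ s = q) ∨ (r = q ∧ s = p) := by
  constructor
  · intro h0
    have h1 := E_pr_left M hpq hne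
    have h2 := E_pr_right M hpq hne
    rw [h0] at h1 h2
    by_cases e1 : p = r
    · left
      refine ⟨e1.symm, ?_⟩
      by_contra e2
      have e3 : q ≠ r := fun e => hne (e1.trans e.symm)
      rw [E_pr_of_ne M hrs e3 (Ne.symm e2)] at h2
      exact zero_ne_one h2
    · have e2 : p = s := by
        by_contra e2
        rw [E_pr_of_ne M hrs e1 e2] at h1
        exact zero_ne_one h1
      right
      refine ⟨?_, e2.symm⟩
      by_contra e3
      have e4 : q ≠ s := fun e => hne (e2.trans e.symm)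
      rw [E_pr_of_ne M hrs (Ne.symm e3) e4] at h2
      exact zero_ne_one h2
  · rintro (⟨rfl, rfl⟩ | ⟨rfl, rfl⟩)
    · rfl
    · exact pr_comm M hpq

/-- `O₂(P)` is the set of elements of a 2-group inside `P ⊓ C_G(V)` -/
theorem le_o2_of {K : Subgroup G} (hK : IsPGroup 2 K) (hKP : K ≤ P ⊓ centralizer (V : Set G)) : K ≤ o2 P := by
  have : Fact (Nat.Prime 2) := ⟨Nat.prime_two⟩
  have hn : P ≤ normalizer ((P ⊓ centralizer (V : Set G) : Subgroup G) : Set G) := by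
    intro g hg
    refine MinSimple.VModule.mem_normalizer_of_map_le ?_
    rintro _ ⟨c, ⟨hc, hcV⟩, rfl⟩
    refine mem_inf.2 ⟨mul_mem (mul_mem hg hc) (inv_mem hg), ?_⟩
    change g * c * g⁻¹ ∈ centralizer (V : Set G)
    rw [mem_centralizer_iff]
    intro v hv
    have h1 := h.amb.conj_mem (inv_mem hg) hv
    have h2 := mem_centralizer_iff.1 hcV _ h1
    calc v * (g * c * g⁻¹) = g * (g⁻¹ * v * g⁻¹⁻¹ * c) * g⁻¹ := by group
      _ = g * (c * (g⁻¹ * v * g⁻¹⁻¹)) * g⁻¹ := by rw [h2]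
      _ = g * c * g⁻¹ * v := by group
  have h0 : ¬ 2 ∣ (S : Subgroup G).relIndex P := by
    rw [relIndex]
    exact (S.subtype h.SP).not_dvd_index
  have h1 := NO3b.UMethod.not_dvd_inf h.SP h0 inf_le_left hn
  have h2 : P ⊓ centralizer (V : Set G) ⊓ (S : Subgroup G) = o2 P := by
    rw [h.Q_eq, inf_right_comm, inf_eq_right.2 h.SP]
  rw [h2] at h1
  have h3 : P ≤ normalizer (o2 P : Set G) := MinSimple.VModule.le_normalizer_o2 P
  have hQN : o2 P ≤ P ⊓ centralizer (V : Set G) := by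
    rw [← h2]
    exact inf_le_left
  have hsup : IsPGroup 2 (o2 P ⊔ K : Subgroup G) :=
    (o2_isPGroup P).to_sup_of_normal_left' hK ((hKP.trans inf_le_left).trans h3)
  have hle : o2 P ⊔ K ≤ P ⊓ centralizer (V : Set G) := sup_le hQN hKP
  have h4 : (o2 P).relIndex (o2 P ⊔ K) ∣ (o2 P).relIndex (P ⊓ centralizer (V : Set G)) :=
    ⟨_, (relIndex_mul_relIndex _ _ _ le_sup_left hle).symm⟩
  obtain ⟨j, hj⟩ := hsup.index ((o2 P).subgroupOf (o2 P ⊔ K))
  have h5 : (o2 P).relIndex (o2 P ⊔ K) = 1 := by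
    rcases Nat.eq_zero_or_pos j with rfl | hj0
    · rw [relIndex, hj, pow_zero]
    · exfalso
      apply h1
      refine (dvd_trans ?_ h4)
      rw [relIndex, hj]
      exact dvd_pow_self 2 (by omega)
  have h6 := relIndex_eq_one.1 h5
  exact le_sup_right.trans h6

/-- an element of a 2-group of elements of `P` over `s ∈ S` -/
theorem mem_S_of {K : Subgroup G} (hK : IsPGroup 2 K) (hKP : K ≤ P) {g s : G} (hg : g ∈ K)
    (hs : s ∈ (S : Subgroup G)) (hsK : s ∈ K) (he : pp M g = pp M s) : g ∈ (S : Subgroup G) := by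
  have h1 : s⁻¹ * g ∈ K := mul_mem (inv_mem hsK) hg
  have h2 : s⁻¹ * g ∈ P ⊓ centralizer (V : Set G) :=
    ⟨hKP h1, (pp_eq_iff h.amb h.hm1 (h.SP hs) (hKP hg)).1 he.symm⟩
  have h3 := le_o2_of h (K := zpowers (s⁻¹ * g)) (hK.to_le (by rwa [zpowers_le])) (by rwa [zpowers_le])
  have h4 : s * (s⁻¹ * g) ∈ (S : Subgroup G) := mul_mem hs (h.QS (h3 (mem_zpowers _)))
  rwa [mul_inv_cancel_left] at h4

end duad

namespace Fr

variable [Finite G] {S : Sylow 2 G} {M : SymK (S : Subgroup G) P V ⊥ k m} (H : Fr S P V M)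

include H

theorem B_le_C {p q : Pt k m} (hpq : p.1 = q.1) (hne : p ≠ q) : zc (o2 (centralizer ({pr M p q} : Set G))) ≤ centralizer (V : Set G) := by
  intro y hy
  rw [mem_centralizer_iff]
  intro v hv
  exact (mem_zc.1 hy).2.1 v (H.V_le hpq hne hv)

theorem B_le_P {p q : Pt k m} (hpq : p.1 = q.1) (hne : p ≠ q) : zc (o2 (centralizer ({pr M p q} : Set G))) ≤ P :=
  (zc_le _).trans (H.Qle hpq hne)

theorem B_le_Q {p q : Pt k m} (hpq : p.1 = q.1) (hne : p ≠ q) : zc (o2 (centralizer ({pr M p q} : Set G))) ≤ o2 P :=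
  le_o2_of H.toSit ((o2_isPGroup _).to_le (zc_le _)) (le_inf (H.B_le_P hpq hne) (H.B_le_C hpq hne))

omit H in
/-- `C_G(pr M p q)` normalises `zc (o2 (centralizer ({pr M p q} : Set G)))` -/
theorem B_norm {p q : Pt k m} {g : G} (hg : g * pr M p q = pr M p q * g) {y : G} (hy : y ∈ zc (o2 (centralizer ({pr M p q} : Set G)))) :
    g * y * g⁻¹ ∈ zc (o2 (centralizer ({pr M p q} : Set G))) :=
  (mem_normalizer_iff.1 (((le_normalizer_o2 _).trans (normalizer_le_normalizer_zc _))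
    (mem_centralizer_singleton_iff.2 hg)) y).1 hy

omit H in
/-- `C_G(V)` normalises `zc (o2 (centralizer ({pr M p q} : Set G)))` -/
theorem B_norm' {p q : Pt k m} {g : G} (hg : g ∈ centralizer (V : Set G)) {y : G} (hy : y ∈ zc (o2 (centralizer ({pr M p q} : Set G)))) :
    g * y * g⁻¹ ∈ zc (o2 (centralizer ({pr M p q} : Set G))) :=
  B_norm (mem_centralizer_iff.1 hg _ (pr_mem M p q)).symm hy

/-- the elements of `zc (o2 (centralizer ({pr M p q} : Set G)))` in `V` commute with the transvection -/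
theorem E_eq {p q : Pt k m} (hpq : p.1 = q.1) (hne : p ≠ q) {v : G} (hv : v ∈ V) (hB : v ∈ zc (o2 (centralizer ({pr M p q} : Set G)))) :
    E M v p = E M v q := by
  obtain ⟨e, he, -, he1⟩ := H.exists_w hpq hne
  have h1 := (mem_zc.1 hB).2.1 e (H.KK_le hpq hne he)
  have h2 := (H.comm_iff (H.Qle hpq hne (H.KK_le hpq hne he)) hv).1 h1 q
  rw [he1, Equiv.swap_apply_right] at h2
  exact h2

/-- **key** -/
theorem key {p q r s : Pt k m} (hrs : r.1 = s.1) (hne : r ≠ s) {y : G}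
    (hy : y ∈ zc (o2 (centralizer ({pr M p q} : Set G)))) (hyc : ∀ b ∈ zc (o2 (centralizer ({pr M r s} : Set G))), y * b = b * y) (hpB : pr M p q ∈ zc (o2 (centralizer ({pr M r s} : Set G)))) : y ∈ o2 (centralizer ({pr M r s} : Set G)) := by
  set N := centralizer ({pr M r s} : Set G) with hN
  set D := N ⊓ centralizer (zc (o2 (centralizer ({pr M r s} : Set G))) : Set G) with hD
  have hyN : y ∈ N := by
    rw [mem_centralizer_singleton_iff]
    exact hyc _ (H.perp hrs hne (pr_mem M r s) (by rw [E_pr_left M hrs hne, E_pr_right M hrs hne]))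
  have hyD : y ∈ D := mem_inf.2 ⟨hyN, by
    rw [mem_centralizer_iff]
    intro b hb
    exact (hyc b hb).symm⟩
  have hDn : N ≤ normalizer (D : Set G) := by
    intro g hg
    refine MinSimple.VModule.mem_normalizer_of_map_le ?_
    rintro _ ⟨c, ⟨hc, hc'⟩, rfl⟩
    refine mem_inf.2 ⟨mul_mem (mul_mem hg hc) (inv_mem hg), ?_⟩
    change g * c * g⁻¹ ∈ centralizer (zc (o2 (centralizer ({pr M r s} : Set G))) : Set G)
    rw [mem_centralizer_iff]
    intro b hb
    have h1 : g⁻¹ * b * g⁻¹⁻¹ ∈ zc (o2 (centralizer ({pr M r s} : Set G))) := B_norm (mem_centralizer_singleton_iff.1 (N.inv_mem hg)) hb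
    have h2 := mem_centralizer_iff.1 hc' _ h1
    calc b * (g * c * g⁻¹) = g * (g⁻¹ * b * g⁻¹⁻¹ * c) * g⁻¹ := by group
      _ = g * (c * (g⁻¹ * b * g⁻¹⁻¹)) * g⁻¹ := by rw [h2]
      _ = g * c * g⁻¹ * b := by group
  have h1 : zc (o2 (centralizer ({pr M p q} : Set G))) ⊓ D ≤ o2 D := by
    refine MinSimple.VModule.le_o2 inf_le_right (((o2_isPGroup _).to_le (zc_le _)).to_le inf_le_left) ?_
    intro g hg
    refine MinSimple.VModule.mem_normalizer_of_map_le ?_
    rintro _ ⟨c, ⟨hc, hc'⟩, rfl⟩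
    have h2 := mem_centralizer_iff.1 hg.2 _ hpB
    exact mem_inf.2 ⟨B_norm h2.symm hc, D.mul_mem (D.mul_mem hg hc') (D.inv_mem hg)⟩
  have h2 : o2 D ≤ o2 N := by
    refine MinSimple.VModule.le_o2 ((o2_le _).trans inf_le_left) (o2_isPGroup _) ?_
    intro g hg
    have h3 : D.map (MulAut.conj g).toMonoidHom = D := mem_normalizer_iff_map_conj_eq.1 (hDn hg)
    refine mem_normalizer_iff_map_conj_eq.2 ((o2_map_equiv (MulAut.conj g) D).symm.trans ?_)
    rw [h3]
  exact h2 (h1 ⟨hy, hyD⟩)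

/-- the action of an element of `K_{pr M p q}` on `o2 (centralizer ({pr M p q} : Set G))` -/
theorem KK_act {p q : Pt k m} {e : G} (he : e ∈ KK (pr M p q)) {y : G} (hy : y ∈ o2 (centralizer ({pr M p q} : Set G))) :
    e * y * e⁻¹ = y ∨ e * y * e⁻¹ = pr M p q * y := by
  have h1 := (mem_KK.1 he).2 y hy
  rw [mem_zpowers_iff_of_sq ((H.pr_sq (p := p) (q := q)))] at h1
  rcases h1 with h1 | h1
  · left
    rwa [mul_inv_eq_one] at h1
  · right
    rwa [mul_inv_eq_iff_eq_mul] at h1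

variable {μ ν : Equiv.Perm (Pt k m)}

/-- `o2 (centralizer ({pr M x (μ x)} : Set G)) ≤ C_S(pr M x (μ x))` -/
theorem Qn_le_tn (F : Fours M μ ν) {x : Pt k m} (hx : x.2 ≠ 0) : o2 (centralizer ({pr M x (μ x)} : Set G)) ≤ tn S M μ x := by
  classical
  have : Fact (Nat.Prime 2) := ⟨Nat.prime_two⟩
  have hf : x.1 = (μ x).1 := (F.mfst x).symm
  have hne : x ≠ μ x := (F.mne x hx).symm
  -- the swap is induced by `S`
  obtain ⟨s, hsA, hs⟩ := Fours.exists_A H.toSit F (π := Equiv.swap x (μ x)) (by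
    rw [F.mem_FA]
    intro p
    rcases eq_or_ne p x with rfl | h1
    · right; rw [Equiv.swap_apply_left]
    · rcases eq_or_ne p (μ x) with rfl | h2
      · right; rw [Equiv.swap_apply_right, F.msq]
      · left; rw [Equiv.swap_apply_of_ne_of_ne h1 h2])
  have hsS : s ∈ (S : Subgroup G) := hsA.1
  have hsT : s ∈ tn S M μ x := by
    refine mem_inf.2 ⟨hsS, ?_⟩
    rw [mem_centralizer_singleton_iff]
    exact H.comm_pr (H.SP hsS) hf (Or.inr ⟨by rw [hs, Equiv.swap_apply_left], by rw [hs, Equiv.swap_apply_right]⟩)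
  have hTn : tn S M μ x ≤ normalizer (o2 (centralizer ({pr M x (μ x)} : Set G)) : Set G) :=
    inf_le_right.trans (le_normalizer_o2 _)
  have hK : IsPGroup 2 (tn S M μ x ⊔ o2 (centralizer ({pr M x (μ x)} : Set G)) : Subgroup G) :=
    (S.isPGroup'.to_le inf_le_left).to_sup_of_normal_right' (o2_isPGroup _) hTn
  have hKP : tn S M μ x ⊔ o2 (centralizer ({pr M x (μ x)} : Set G)) ≤ P :=
    sup_le (inf_le_left.trans H.SP) (H.Qle hf hne)
  intro g hg
  refine ⟨?_, (o2_le _ hg)⟩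
  rcases H.Qpp hf hne hg with h1 | h1
  · exact mem_S_of H.toSit hK hKP (mem_sup_right hg) (one_mem _) (one_mem _) (by rw [h1, H.one])
  · exact mem_S_of H.toSit hK hKP (mem_sup_right hg) hsS (mem_sup_left hsT) (by rw [h1, hs])

end Fr

end Cfsg.Agent.Omega.IId.SymWr.Ht
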